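import Mathlib
import Groth.Agent.HilbDescLib.AffinePoints

/-! Maps to affine test schemes via global sections. -/

set_option autoImplicit false
set_option backward.isDefEq.respectTransparency false
set_option backward.isDefEq.respectTransparency.types false
set_option linter.style.haveILetI false

universe u

open AlgebraicGeometry CategoryTheory Opposite

namespace Groth.Agent.GrassRepLib

open HilbDescLib

variable {R : Type u} [CommRing R]

/-- Global functions of a scheme over `R`. -/
noncomputable def gam (P : Over (Spec (CommRingCat.of R))) : CommAlgCat.{u} R :=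
  @CommAlgCat.of R _ ↑(Γ(P.left, ⊤)) _
    (((Scheme.ΓSpecIso (CommRingCat.of R)).inv ≫ P.hom.appTop).hom.toAlgebra)

theorem gam_algebraMap (P : Over (Spec (CommRingCat.of R))) :
    CommRingCat.ofHom (algebraMap R (gam P)) = (Scheme.ΓSpecIso (CommRingCat.of R)).inv ≫ P.hom.appTop := rfl

/-- Pullback of global functions. -/
noncomputable def gamMap {P Q : Over (Spec (CommRingCat.of R))} (m : P ⟶ Q) : gam Q ⟶ gam P :=
  algHomMk
    { m.left.appTop.hom with
      commutes' := fun x => by
        show m.left.appTop.hom (((Scheme.ΓSpecIso (CommRingCat.of R)).inv ≫ Q.hom.appTop).hom x) = _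
        rw [← CommRingCat.comp_apply, Category.assoc, ← Scheme.Hom.comp_appTop, Over.w m]
        rfl }

theorem gamMap_comp {P Q T : Over (Spec (CommRingCat.of R))} (m : P ⟶ Q) (n : Q ⟶ T) :
    gamMap (m ≫ n) = gamMap n ≫ gamMap m := rfl

theorem gamMap_id (P : Over (Spec (CommRingCat.of R))) : gamMap (𝟙 P) = 𝟙 (gam P) := rfl

/-- The algebra map of a map to an affine test scheme. -/
noncomputable def toHom {P : Over (Spec (CommRingCat.of R))} {A : CommAlgCat.{u} R} (a : P ⟶ test A) : A ⟶ gam P :=
  algHomMk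
    { ((Scheme.ΓSpecIso (CommRingCat.of A)).inv ≫ a.left.appTop).hom with
      commutes' := fun x => by
        show ((Scheme.ΓSpecIso (CommRingCat.of A)).inv ≫ a.left.appTop).hom (algebraMap R A x) = _
        rw [← CommRingCat.ofHom_apply (R := CommRingCat.of R) (algebraMap R A) x, ← CommRingCat.comp_apply,
          ← Category.assoc, Scheme.ΓSpecIso_inv_naturality, Category.assoc, ← Scheme.Hom.comp_appTop]
        exact congrArg (fun h : P.left ⟶ Spec (CommRingCat.of R) =>
          ((Scheme.ΓSpecIso (CommRingCat.of R)).inv ≫ h.appTop).hom x) (Over.w a) }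

theorem toHom_comp {P Q : Over (Spec (CommRingCat.of R))} {A : CommAlgCat.{u} R} (m : P ⟶ Q) (a : Q ⟶ test A) :
    toHom (m ≫ a) = toHom a ≫ gamMap m := rfl

/-- The map to an affine test scheme of an algebra map. -/
noncomputable def ofHom' {P : Over (Spec (CommRingCat.of R))} {A : CommAlgCat.{u} R} (φ : A ⟶ gam P) : P ⟶ test A :=
  Over.homMk (P.left.toSpecΓ ≫ Spec.map (CommRingCat.ofHom φ.hom.toRingHom)) (by
    show (_ ≫ _) ≫ Spec.map _ = _
    rw [Category.assoc, ← Spec.map_comp]
    have h : CommRingCat.ofHom (algebraMap R A) ≫ CommRingCat.ofHom φ.hom.toRingHom =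
        CommRingCat.ofHom (algebraMap R (gam P)) := CommRingCat.hom_ext φ.hom.comp_algebraMap
    rw [h]
    refine ext_of_isAffine ?_
    rw [Scheme.Hom.comp_appTop]
    show (Spec.map ((Scheme.ΓSpecIso (CommRingCat.of R)).inv ≫ P.hom.appTop)).appTop ≫ P.left.toSpecΓ.appTop = _
    rw [Scheme.toSpecΓ_appTop, ← cancel_epi (Scheme.ΓSpecIso (CommRingCat.of R)).inv,
      ← Category.assoc, ← Scheme.ΓSpecIso_inv_naturality, Category.assoc, Iso.inv_hom_id, Category.comp_id])

theorem toHom_injective {P : Over (Spec (CommRingCat.of R))} {A : CommAlgCat.{u} R} {a b : P ⟶ test A}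
    (h : toHom a = toHom b) : a = b := by
  have h' : (Scheme.ΓSpecIso (CommRingCat.of A)).inv ≫ a.left.appTop = (Scheme.ΓSpecIso (CommRingCat.of A)).inv ≫ b.left.appTop :=
    CommRingCat.hom_ext (RingHom.ext fun x => congrArg (fun φ : A ⟶ gam P => φ.hom x) h)
  haveI : IsAffine (test A).left := inferInstanceAs (IsAffine (Spec (CommRingCat.of A)))
  exact Over.OverMorphism.ext (ext_of_isAffine ((cancel_epi _).1 h'))

theorem toHom_ofHom' {P : Over (Spec (CommRingCat.of R))} {A : CommAlgCat.{u} R} (φ : A ⟶ gam P) :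
    toHom (ofHom' φ) = φ := by
  refine CommAlgCat.hom_ext (AlgHom.ext fun x => ?_)
  show ((Scheme.ΓSpecIso (CommRingCat.of A)).inv ≫
    (P.left.toSpecΓ ≫ Spec.map (CommRingCat.ofHom φ.hom.toRingHom)).appTop).hom x = φ.hom x
  rw [Scheme.Hom.comp_appTop, Scheme.toSpecΓ_appTop, ← Category.assoc, ← Scheme.ΓSpecIso_inv_naturality,
    Category.assoc, Iso.inv_hom_id, Category.comp_id]
  rfl

theorem existsUnique_ofHom {P : Over (Spec (CommRingCat.of R))} {A : CommAlgCat.{u} R} (φ : A ⟶ gam P) :
    ∃! a : P ⟶ test A, toHom a = φ :=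
  ⟨ofHom' φ, toHom_ofHom' φ, fun _ h => toHom_injective (h.trans (toHom_ofHom' φ).symm)⟩

end Groth.Agent.GrassRepLib
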