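import Mathlib
import Groth.Agent.GrassRepLib.Points

/-! A functor on algebras covered by open affine charts: the glued scheme. -/

set_option autoImplicit false
set_option backward.isDefEq.respectTransparency false
set_option backward.isDefEq.respectTransparency.types false
set_option backward.defeqAttrib.useBackward true
set_option linter.style.haveILetI false
set_option maxHeartbeats 800000

universe u

open AlgebraicGeometry CategoryTheory CategoryTheory.Limits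

namespace Groth.Agent.GrassRepLib

open HilbDescLib

variable {R : Type u} [CommRing R]

/-- A principal localisation. -/
noncomputable abbrev loc (A : CommAlgCat.{u} R) (r : A) : CommAlgCat.{u} R :=
  CommAlgCat.of R (Localization.Away r)

/-- The map to a principal localisation. -/
noncomputable abbrev locMap (A : CommAlgCat.{u} R) (r : A) : A ⟶ loc A r :=
  algHomMk (IsScalarTower.toAlgHom R A (Localization.Away r))

/-- Open affine charts of a functor. -/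
structure Atlas (F : CommAlgCat.{u} R ⥤ Type u) where
  /-- indices -/
  J : Type u
  /-- the rings of the charts -/
  C : J → CommAlgCat.{u} R
  /-- the universal elements -/
  u : ∀ i, F.obj (C i)
  /-- the equation of the complement of chart `j` in chart `i` -/
  d : ∀ i, J → C i
  inj : ∀ (i : J) (A : CommAlgCat.{u} R) (φ ψ : C i ⟶ A), F.map φ (u i) = F.map ψ (u i) → φ = ψ
  chart : ∀ (i j : J) (A : CommAlgCat.{u} R) (φ : C i ⟶ A),
    IsUnit (φ.hom (d i j)) ↔ ∃ ψ : C j ⟶ A, F.map ψ (u j) = F.map φ (u i)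
  cover : ∀ (A : CommAlgCat.{u} R) (x : F.obj A),
    Ideal.span {r : A | ∃ (i : J) (ψ : C i ⟶ loc A r), F.map ψ (u i) = F.map (locMap A r) x} = ⊤

theorem map_map {F : CommAlgCat.{u} R ⥤ Type u} {A B C : CommAlgCat.{u} R} (φ : A ⟶ B) (ψ : B ⟶ C) (x : F.obj A) :
    F.map ψ (F.map φ x) = F.map (φ ≫ ψ) x := by
  rw [F.map_comp]
  rfl

variable {F : CommAlgCat.{u} R ⥤ Type u} (𝔄 : Atlas F) {P Q : Over (Spec (CommRingCat.of R))}

/-- A chart as a scheme over the base. -/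
noncomputable abbrev chartO (i : 𝔄.J) : Over (Spec (CommRingCat.of R)) := test (𝔄.C i)

/-- The element attached to a map into a chart. -/
noncomputable def pt {i : 𝔄.J} (a : P ⟶ chartO 𝔄 i) : F.obj (gam P) := F.map (toHom a) (𝔄.u i)

theorem pt_comp {i : 𝔄.J} (m : P ⟶ Q) (a : Q ⟶ chartO 𝔄 i) : pt 𝔄 (m ≫ a) = F.map (gamMap m) (pt 𝔄 a) := by
  rw [pt, pt, map_map, toHom_comp]

theorem pt_injective {i : 𝔄.J} {a b : P ⟶ chartO 𝔄 i} (h : pt 𝔄 a = pt 𝔄 b) : a = b :=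
  toHom_injective (𝔄.inj i _ _ _ h)

/-- An element lies in a chart. -/
def InChart (i : 𝔄.J) (x : F.obj (gam P)) : Prop := ∃ b : P ⟶ chartO 𝔄 i, pt 𝔄 b = x

/-- The open subset of chart `i` where it meets chart `j`. -/
noncomputable abbrev ov (i j : 𝔄.J) : (chartO 𝔄 i).left.Opens :=
  (PrimeSpectrum.basicOpen (𝔄.d i j) : (Spec (CommRingCat.of (𝔄.C i))).Opens)

/-- The overlap over the base. -/
noncomputable abbrev ovO (i j : 𝔄.J) : Over (Spec (CommRingCat.of R)) :=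
  Over.mk ((ov 𝔄 i j).ι ≫ (chartO 𝔄 i).hom)

/-- The inclusion of the overlap. -/
noncomputable abbrev ovInc (i j : 𝔄.J) : ovO 𝔄 i j ⟶ chartO 𝔄 i := Over.homMk (ov 𝔄 i j).ι rfl

theorem inChart_iff {i j : 𝔄.J} (a : P ⟶ chartO 𝔄 i) :
    InChart 𝔄 j (pt 𝔄 a) ↔ ∀ p, a.left p ∈ ov 𝔄 i j := by
  have h1 : InChart 𝔄 j (pt 𝔄 a) ↔ IsUnit ((toHom a).hom (𝔄.d i j)) := by
    rw [𝔄.chart i j _ (toHom a)]
    constructor
    · rintro ⟨b, hb⟩
      exact ⟨toHom b, hb⟩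
    · rintro ⟨ψ, hψ⟩
      obtain ⟨b, hb, -⟩ := existsUnique_ofHom (P := P) ψ
      exact ⟨b, by rw [pt, hb]; exact hψ⟩
  have h2 : P.left.basicOpen ((toHom a).hom (𝔄.d i j)) = a.left ⁻¹ᵁ ov 𝔄 i j := by
    rw [show ov 𝔄 i j = (chartO 𝔄 i).left.basicOpen
      ((Scheme.ΓSpecIso (CommRingCat.of (𝔄.C i))).inv.hom (𝔄.d i j)) from (basicOpen_eq_of_affine _).symm,
      Scheme.preimage_basicOpen]
    rfl
  rw [h1]
  constructor
  · intro h p
    have := Scheme.basicOpen_of_isUnit _ h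
    rw [h2] at this
    exact this.ge (show p ∈ (⊤ : P.left.Opens) from trivial)
  · intro h
    refine RingedSpace.isUnit_of_isUnit_germ P.left.toRingedSpace ⊤ _ fun p hp => ?_
    exact (Scheme.mem_basicOpen (X := P.left) _ p hp).1 (h2.ge (h p))

/-- The lift of an element to a chart. -/
noncomputable def liftTo (x : F.obj (gam P)) {j : 𝔄.J} (h : InChart 𝔄 j x) : P ⟶ chartO 𝔄 j := h.choose

theorem pt_liftTo (x : F.obj (gam P)) {j : 𝔄.J} (h : InChart 𝔄 j x) : pt 𝔄 (liftTo 𝔄 x h) = x := h.choose_spec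

/-- The lift of an element to an overlap. -/
noncomputable def liftOv (x : F.obj (gam P)) {j k : 𝔄.J} (hj : InChart 𝔄 j x) (hk : InChart 𝔄 k x) :
    P ⟶ ovO 𝔄 j k :=
  Over.homMk (IsOpenImmersion.lift (ov 𝔄 j k).ι (liftTo 𝔄 x hj).left (by
    rintro _ ⟨p, rfl⟩
    exact ⟨⟨_, (inChart_iff 𝔄 (liftTo 𝔄 x hj)).1 (by rw [pt_liftTo]; exact hk) p⟩, rfl⟩)) (by
    show _ ≫ (ov 𝔄 j k).ι ≫ _ = _
    rw [← Category.assoc, IsOpenImmersion.lift_fac]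
    exact Over.w _)

@[reassoc]
theorem liftOv_inc (x : F.obj (gam P)) {j k : 𝔄.J} (hj : InChart 𝔄 j x) (hk : InChart 𝔄 k x) :
    liftOv 𝔄 x hj hk ≫ ovInc 𝔄 j k = liftTo 𝔄 x hj :=
  Over.OverMorphism.ext (IsOpenImmersion.lift_fac _ _ _)

theorem inChart_ov_self (i j : 𝔄.J) : InChart 𝔄 i (pt 𝔄 (ovInc 𝔄 i j)) := ⟨ovInc 𝔄 i j, rfl⟩

theorem inChart_ov_other (i j : 𝔄.J) : InChart 𝔄 j (pt 𝔄 (ovInc 𝔄 i j)) :=
  (inChart_iff 𝔄 (ovInc 𝔄 i j)).2 fun p => p.2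

/-- The transition map. -/
noncomputable def tMap (i j : 𝔄.J) : ovO 𝔄 i j ⟶ ovO 𝔄 j i :=
  liftOv 𝔄 _ (inChart_ov_other 𝔄 i j) (inChart_ov_self 𝔄 i j)

theorem pt_tMap (i j : 𝔄.J) : pt 𝔄 (tMap 𝔄 i j ≫ ovInc 𝔄 j i) = pt 𝔄 (ovInc 𝔄 i j) := by
  rw [tMap, liftOv_inc, pt_liftTo]

/-- The triple overlap. -/
noncomputable abbrev triO (i j k : 𝔄.J) : Over (Spec (CommRingCat.of R)) :=
  Over.mk (pullback.fst (ov 𝔄 i j).ι (ov 𝔄 i k).ι ≫ (ovO 𝔄 i j).hom)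

/-- First projection. -/
noncomputable abbrev triFst (i j k : 𝔄.J) : triO 𝔄 i j k ⟶ ovO 𝔄 i j := Over.homMk (pullback.fst _ _) rfl

/-- Second projection. -/
noncomputable abbrev triSnd (i j k : 𝔄.J) : triO 𝔄 i j k ⟶ ovO 𝔄 i k :=
  Over.homMk (pullback.snd _ _) (by
    show pullback.snd _ _ ≫ (ov 𝔄 i k).ι ≫ _ = pullback.fst _ _ ≫ (ov 𝔄 i j).ι ≫ _
    rw [← Category.assoc, ← pullback.condition, Category.assoc])

/-- The map of the triple overlap to its chart. -/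
noncomputable abbrev triInc (i j k : 𝔄.J) : triO 𝔄 i j k ⟶ chartO 𝔄 i := triFst 𝔄 i j k ≫ ovInc 𝔄 i j

theorem inChart_tri₁ (i j k : 𝔄.J) : InChart 𝔄 i (pt 𝔄 (triInc 𝔄 i j k)) := ⟨_, rfl⟩

theorem inChart_tri₂ (i j k : 𝔄.J) : InChart 𝔄 j (pt 𝔄 (triInc 𝔄 i j k)) :=
  (inChart_iff 𝔄 (triInc 𝔄 i j k)).2 fun p => ((triFst 𝔄 i j k).left p).2

theorem inChart_tri₃ (i j k : 𝔄.J) : InChart 𝔄 k (pt 𝔄 (triInc 𝔄 i j k)) := by
  have h : triInc 𝔄 i j k = triSnd 𝔄 i j k ≫ ovInc 𝔄 i k := Over.OverMorphism.ext pullback.condition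
  rw [h]
  exact (inChart_iff 𝔄 (triSnd 𝔄 i j k ≫ ovInc 𝔄 i k)).2 fun p => ((triSnd 𝔄 i j k).left p).2

/-- The cocycle map. -/
noncomputable def tMap' (i j k : 𝔄.J) : triO 𝔄 i j k ⟶ triO 𝔄 j k i :=
  Over.homMk
    (pullback.lift (liftOv 𝔄 _ (inChart_tri₂ 𝔄 i j k) (inChart_tri₃ 𝔄 i j k)).left
      (liftOv 𝔄 _ (inChart_tri₂ 𝔄 i j k) (inChart_tri₁ 𝔄 i j k)).left
      (congrArg CommaMorphism.left ((liftOv_inc 𝔄 _ _ _).trans (liftOv_inc 𝔄 _ _ _).symm)))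
    (by
      show _ ≫ pullback.fst _ _ ≫ _ = _
      rw [← Category.assoc, pullback.lift_fst]
      exact Over.w _)

theorem pt_tMap' (i j k : 𝔄.J) : pt 𝔄 (tMap' 𝔄 i j k ≫ triInc 𝔄 j k i) = pt 𝔄 (triInc 𝔄 i j k) := by
  have h : tMap' 𝔄 i j k ≫ triInc 𝔄 j k i = liftTo 𝔄 _ (inChart_tri₂ 𝔄 i j k) := by
    rw [← liftOv_inc 𝔄 _ (inChart_tri₂ 𝔄 i j k) (inChart_tri₃ 𝔄 i j k), triInc, ← Category.assoc]
    congr 1
    exact Over.OverMorphism.ext (pullback.lift_fst _ _ _)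
  rw [h, pt_liftTo]

/-- The gluing datum. -/
noncomputable def glueData : Scheme.GlueData.{u} where
  J := 𝔄.J
  U i := (chartO 𝔄 i).left
  V p := (ov 𝔄 p.1 p.2).toScheme
  f i j := (ov 𝔄 i j).ι
  f_open i j := inferInstance
  f_mono i j := inferInstance
  f_hasPullback i j k := inferInstance
  f_id i := by
    haveI : Surjective (ov 𝔄 i i).ι := ⟨fun p =>
      ⟨⟨p, (inChart_iff 𝔄 (𝟙 (chartO 𝔄 i))).1 ⟨𝟙 _, rfl⟩ p⟩, rfl⟩⟩
    exact (isIso_iff_isOpenImmersion_and_surjective _).2 ⟨inferInstance, inferInstance⟩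
  t i j := (tMap 𝔄 i j).left
  t_id i := by
    rw [← cancel_mono (ov 𝔄 i i).ι]
    refine Eq.trans ?_ (Category.id_comp _).symm
    exact congrArg CommaMorphism.left (pt_injective 𝔄 (pt_tMap 𝔄 i i))
  t' i j k := (tMap' 𝔄 i j k).left
  t_fac i j k := by
    rw [← cancel_mono (ov 𝔄 j i).ι]
    show ((tMap' 𝔄 i j k).left ≫ pullback.snd _ _) ≫ _ = (pullback.fst _ _ ≫ (tMap 𝔄 i j).left) ≫ _
    refine congrArg CommaMorphism.left (pt_injective 𝔄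
      (?_ : pt 𝔄 ((tMap' 𝔄 i j k ≫ triSnd 𝔄 j k i) ≫ ovInc 𝔄 j i) = pt 𝔄 ((triFst 𝔄 i j k ≫ tMap 𝔄 i j) ≫ ovInc 𝔄 j i)))
    have h1 : (tMap' 𝔄 i j k ≫ triSnd 𝔄 j k i) ≫ ovInc 𝔄 j i = liftTo 𝔄 _ (inChart_tri₂ 𝔄 i j k) := by
      rw [← liftOv_inc 𝔄 _ (inChart_tri₂ 𝔄 i j k) (inChart_tri₁ 𝔄 i j k)]
      congr 1
      exact Over.OverMorphism.ext (pullback.lift_snd _ _ _)
    rw [h1, pt_liftTo, Category.assoc, pt_comp, pt_comp, pt_tMap]
  cocycle i j k := by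
    have h : pt 𝔄 ((tMap' 𝔄 i j k ≫ tMap' 𝔄 j k i ≫ tMap' 𝔄 k i j) ≫ triInc 𝔄 i j k) = pt 𝔄 (triInc 𝔄 i j k) := by
      rw [Category.assoc, Category.assoc, pt_comp, pt_comp, pt_tMap', ← pt_comp, pt_tMap', ← pt_comp, pt_tMap']
    have h' := congrArg CommaMorphism.left (pt_injective 𝔄 h)
    simp only [Over.comp_left, Category.assoc] at h'
    rw [← cancel_mono (pullback.fst (ov 𝔄 i j).ι (ov 𝔄 i k).ι), ← cancel_mono (ov 𝔄 i j).ι]
    simp only [Category.assoc, Category.id_comp]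
    exact h'

theorem glue_w (i j : 𝔄.J) :
    (ov 𝔄 i j).ι ≫ (chartO 𝔄 i).hom = ((tMap 𝔄 i j).left ≫ (ov 𝔄 j i).ι) ≫ (chartO 𝔄 j).hom := by
  rw [Category.assoc]
  exact (Over.w (tMap 𝔄 i j)).symm

/-- The glued scheme over the base. -/
noncomputable def glued : Over (Spec (CommRingCat.of R)) :=
  Over.mk (Multicoequalizer.desc (glueData 𝔄).diagram _ (fun i => (chartO 𝔄 i).hom) (fun p => glue_w 𝔄 p.1 p.2))

/-- The charts of the glued scheme. -/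
noncomputable def glι (i : 𝔄.J) : chartO 𝔄 i ⟶ glued 𝔄 :=
  Over.homMk ((glueData 𝔄).ι i)
    (Multicoequalizer.π_desc (glueData 𝔄).diagram _ (fun i => (chartO 𝔄 i).hom) (fun p => glue_w 𝔄 p.1 p.2) i)

instance glι_isOpenImmersion (i : 𝔄.J) : IsOpenImmersion (glι 𝔄 i).left :=
  inferInstanceAs (IsOpenImmersion ((glueData 𝔄).ι i))

theorem glι_jointly_surjective (x : (glued 𝔄).left) : ∃ (i : 𝔄.J) (z : (chartO 𝔄 i).left), (glι 𝔄 i).left z = x :=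
  (glueData 𝔄).ι_jointly_surjective x

theorem tMap_glι (i j : 𝔄.J) : tMap 𝔄 i j ≫ ovInc 𝔄 j i ≫ glι 𝔄 j = ovInc 𝔄 i j ≫ glι 𝔄 i :=
  Over.OverMorphism.ext ((glueData 𝔄).glue_condition i j)

theorem glι_eq_iff {i j : 𝔄.J} (a : P ⟶ chartO 𝔄 i) (b : P ⟶ chartO 𝔄 j) :
    a ≫ glι 𝔄 i = b ≫ glι 𝔄 j ↔ pt 𝔄 a = pt 𝔄 b := by
  constructor
  · intro h
    have hP : IsPullback (ov 𝔄 i j).ι ((tMap 𝔄 i j).left ≫ (ov 𝔄 j i).ι) (glι 𝔄 i).left (glι 𝔄 j).left :=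
      IsPullback.of_isLimit ((glueData 𝔄).vPullbackConeIsLimit i j)
    let l : P ⟶ ovO 𝔄 i j := Over.homMk (hP.lift a.left b.left (congrArg CommaMorphism.left h)) (by
      show _ ≫ (ov 𝔄 i j).ι ≫ _ = _
      rw [← Category.assoc, hP.lift_fst]
      exact Over.w a)
    have ha : a = l ≫ ovInc 𝔄 i j := Over.OverMorphism.ext (hP.lift_fst _ _ _).symm
    have hb : b = l ≫ (tMap 𝔄 i j ≫ ovInc 𝔄 j i) := Over.OverMorphism.ext (hP.lift_snd _ _ _).symm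
    rw [ha, hb, pt_comp, pt_comp _ l (tMap 𝔄 i j ≫ ovInc 𝔄 j i), pt_tMap]
  · intro h
    have hj : InChart 𝔄 j (pt 𝔄 a) := ⟨b, h.symm⟩
    have hi : InChart 𝔄 i (pt 𝔄 a) := ⟨a, rfl⟩
    let l := liftOv 𝔄 _ hi hj
    have ha : l ≫ ovInc 𝔄 i j = a := pt_injective 𝔄 (by rw [liftOv_inc, pt_liftTo])
    have hb : l ≫ tMap 𝔄 i j ≫ ovInc 𝔄 j i = b := pt_injective 𝔄 (by
      rw [pt_comp, pt_tMap, ← pt_comp, ha, h])
    rw [← ha, ← hb, Category.assoc, Category.assoc, Category.assoc, tMap_glι]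

end Groth.Agent.GrassRepLib
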