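import Mathlib
import Groth.Agent.GrassRepLib.Glue

/-! A Zariski local functor covered by open affine charts is representable on affine points. -/

set_option autoImplicit false
set_option backward.isDefEq.respectTransparency false
set_option backward.isDefEq.respectTransparency.types false
set_option linter.style.haveILetI false
set_option maxHeartbeats 800000

universe u

open AlgebraicGeometry CategoryTheory CategoryTheory.Limits

namespace Groth.Agent.GrassRepLib

open HilbDescLib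

variable {R : Type u} [CommRing R]

/-- Zariski separatedness and gluing. -/
structure IsZarLocal (F : CommAlgCat.{u} R ⥤ Type u) : Prop where
  sep : ∀ (A : CommAlgCat.{u} R) (s : Set A), Ideal.span s = ⊤ → ∀ x y : F.obj A,
    (∀ r ∈ s, F.map (locMap A r) x = F.map (locMap A r) y) → x = y
  glue : ∀ (A : CommAlgCat.{u} R) (s : Set A), Ideal.span s = ⊤ → ∀ x : ∀ r : s, F.obj (loc A r.1),
    (∀ (r t : s) (B : CommAlgCat.{u} R) (φ : loc A r.1 ⟶ B) (ψ : loc A t.1 ⟶ B),
      locMap A r.1 ≫ φ = locMap A t.1 ≫ ψ → F.map φ (x r) = F.map ψ (x t)) →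
    ∃ z : F.obj A, ∀ r : s, F.map (locMap A r.1) z = x r

/-- A map of test schemes. -/
noncomputable def tmap {A B : CommAlgCat.{u} R} (φ : A ⟶ B) : test B ⟶ test A :=
  Over.homMk (Spec.map (CommRingCat.ofHom φ.hom.toRingHom)) (by
    show Spec.map _ ≫ Spec.map _ = Spec.map _
    rw [← Spec.map_comp]
    congr 1
    exact CommRingCat.hom_ext φ.hom.comp_algebraMap)

theorem testHom_tmap {A B : CommAlgCat.{u} R} (φ : A ⟶ B) : testHom (tmap φ) = φ := by
  refine CommAlgCat.hom_ext (AlgHom.ext fun x => ?_)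
  show (Spec.preimage (Spec.map (CommRingCat.ofHom φ.hom.toRingHom))).hom x = _
  rw [Spec.preimage_map]
  rfl

theorem tmap_testHom {A B : CommAlgCat.{u} R} (h : test B ⟶ test A) : tmap (testHom h) = h :=
  Over.OverMorphism.ext (testHom_left h).symm

theorem testHom_comp {A B C : CommAlgCat.{u} R} (h : test C ⟶ test B) (h' : test B ⟶ test A) :
    testHom (h ≫ h') = testHom h' ≫ testHom h := by
  refine CommAlgCat.hom_ext (AlgHom.ext fun x => ?_)
  show (Spec.preimage (h.left ≫ h'.left)).hom x = (Spec.preimage h.left).hom ((Spec.preimage h'.left).hom x)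
  rw [Spec.preimage_comp]
  rfl

theorem tmap_comp {A B C : CommAlgCat.{u} R} (φ : A ⟶ B) (ψ : B ⟶ C) : tmap (φ ≫ ψ) = tmap ψ ≫ tmap φ := by
  rw [← tmap_testHom (tmap ψ ≫ tmap φ), testHom_comp, testHom_tmap, testHom_tmap]

theorem tmap_id (A : CommAlgCat.{u} R) : tmap (𝟙 A) = 𝟙 (test A) :=
  Over.OverMorphism.ext (Spec.map_id _)

theorem toHom_eq_testHom {A B : CommAlgCat.{u} R} (h : test B ⟶ test A) :
    toHom h = testHom h ≫ toHom (𝟙 (test B)) := by
  refine CommAlgCat.hom_ext (AlgHom.ext fun x => ?_)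
  show ((Scheme.ΓSpecIso (CommRingCat.of A)).inv ≫ h.left.appTop).hom x =
    ((Scheme.ΓSpecIso (CommRingCat.of B)).inv ≫ (𝟙 (test B).left : _ ⟶ _).appTop).hom ((testHom h).hom x)
  rw [testHom_left h, ← Scheme.ΓSpecIso_inv_naturality, Scheme.Hom.id_appTop]
  erw [Category.comp_id]
  rfl

instance isIso_toHom_id (A : CommAlgCat.{u} R) : IsIso (toHom (𝟙 (test A))) := by
  let g : gam (test A) →ₐ[R] A :=
    { (Scheme.ΓSpecIso (CommRingCat.of A)).hom.hom with
      commutes' := fun x => by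
        show (Scheme.ΓSpecIso (CommRingCat.of A)).hom.hom (((Scheme.ΓSpecIso (CommRingCat.of R)).inv ≫
          (Spec.map (CommRingCat.ofHom (algebraMap R A))).appTop).hom x) = _
        rw [← CommRingCat.comp_apply, ← Scheme.ΓSpecIso_inv_naturality, Category.assoc, Iso.inv_hom_id, Category.comp_id]
        rfl }
  refine ⟨algHomMk g, CommAlgCat.hom_ext (AlgHom.ext fun x => ?_), CommAlgCat.hom_ext (AlgHom.ext fun x => ?_)⟩
  · show (Scheme.ΓSpecIso (CommRingCat.of A)).hom.hom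
      (((Scheme.ΓSpecIso (CommRingCat.of A)).inv ≫ (𝟙 (test A).left : _ ⟶ _).appTop).hom x) = x
    rw [Scheme.Hom.id_appTop]
    erw [Category.comp_id]
    exact (Scheme.ΓSpecIso (CommRingCat.of A)).commRingCatIsoToRingEquiv.apply_symm_apply x
  · show ((Scheme.ΓSpecIso (CommRingCat.of A)).inv ≫ (𝟙 (test A).left : _ ⟶ _).appTop).hom
      ((Scheme.ΓSpecIso (CommRingCat.of A)).hom.hom x) = x
    rw [Scheme.Hom.id_appTop]
    erw [Category.comp_id]
    exact (Scheme.ΓSpecIso (CommRingCat.of A)).commRingCatIsoToRingEquiv.symm_apply_apply x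

/-- The cover by principal opens. -/
noncomputable abbrev awayCover (A : CommAlgCat.{u} R) (s : Set A) (hs : Ideal.span s = ⊤) :
    Scheme.OpenCover.{u} (test A).left :=
  (Scheme.affineOpenCoverOfSpanRangeEqTop (R := CommRingCat.of A) (fun r : s => r.1)
    (by rw [Subtype.range_coe]; exact hs)).openCover

variable {F : CommAlgCat.{u} R ⥤ Type u} (𝔄 : Atlas F)

/-- The element attached to a test point of a chart. -/
noncomputable def ev {i : 𝔄.J} {A : CommAlgCat.{u} R} (b : test A ⟶ chartO 𝔄 i) : F.obj A :=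
  F.map (testHom b) (𝔄.u i)

theorem ev_tmap {i : 𝔄.J} {A B : CommAlgCat.{u} R} (φ : A ⟶ B) (b : test A ⟶ chartO 𝔄 i) :
    ev 𝔄 (tmap φ ≫ b) = F.map φ (ev 𝔄 b) := by
  rw [ev, ev, map_map, testHom_comp, testHom_tmap]

theorem ev_eq_iff {i j : 𝔄.J} {A : CommAlgCat.{u} R} (a : test A ⟶ chartO 𝔄 i) (b : test A ⟶ chartO 𝔄 j) :
    a ≫ glι 𝔄 i = b ≫ glι 𝔄 j ↔ ev 𝔄 a = ev 𝔄 b := by
  rw [glι_eq_iff, pt, pt, toHom_eq_testHom a, toHom_eq_testHom b, ← map_map, ← map_map]
  refine ⟨fun h => ?_, fun h => congrArg _ h⟩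
  have h' := congrArg (F.map (inv (toHom (𝟙 (test A))))) h
  rw [map_map, map_map, map_map, map_map, IsIso.hom_inv_id, Category.comp_id,
    Category.comp_id] at h'
  exact h'

/-- The element `x` describes the point `g`. -/
def Compat {A : CommAlgCat.{u} R} (g : test A ⟶ glued 𝔄) (x : F.obj A) : Prop :=
  ∀ (B : CommAlgCat.{u} R) (φ : A ⟶ B) (i : 𝔄.J) (b : test B ⟶ chartO 𝔄 i),
    tmap φ ≫ g = b ≫ glι 𝔄 i → F.map φ x = ev 𝔄 b

/-- The set of denominators of small pieces of a point. -/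
def small {A : CommAlgCat.{u} R} (g : test A ⟶ glued 𝔄) : Set A :=
  {r | ∃ (i : 𝔄.J) (b : test (loc A r) ⟶ chartO 𝔄 i), tmap (locMap A r) ≫ g = b ≫ glι 𝔄 i}

theorem span_small {A : CommAlgCat.{u} R} (g : test A ⟶ glued 𝔄) : Ideal.span (small 𝔄 g) = ⊤ := by
  by_contra hne
  obtain ⟨M, hM, hle⟩ := Ideal.exists_le_maximal _ hne
  let y : Spec (CommRingCat.of A) := ⟨M, hM.isPrime⟩
  obtain ⟨i, z, hz⟩ := glι_jointly_surjective 𝔄 (g.left y)
  obtain ⟨_, ⟨r, rfl⟩, hyr, hrV⟩ := PrimeSpectrum.isTopologicalBasis_basic_opens.exists_subset_of_mem_open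
    (a := y) (u := ((g.left ⁻¹ᵁ (glι 𝔄 i).left.opensRange).carrier : Set (PrimeSpectrum A))) ⟨z, hz⟩
    (g.left ⁻¹ᵁ (glι 𝔄 i).left.opensRange).2
  have hrange : Set.range ((tmap (locMap A r)) ≫ g).left ⊆ Set.range (glι 𝔄 i).left := by
    rintro _ ⟨w, rfl⟩
    refine hrV (?_ : (tmap (locMap A r)).left w ∈ (PrimeSpectrum.basicOpen r : Set (PrimeSpectrum A)))
    rw [← PrimeSpectrum.localization_away_comap_range (Localization.Away r) r]
    exact ⟨w, rfl⟩
  refine hyr (hle (Ideal.subset_span ⟨i, Over.homMk (IsOpenImmersion.lift (glι 𝔄 i).left _ hrange) ?_, ?_⟩))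
  · rw [← Over.w (glι 𝔄 i), ← Category.assoc, IsOpenImmersion.lift_fac]
    exact Over.w _
  · exact Over.OverMorphism.ext (IsOpenImmersion.lift_fac _ _ _).symm

variable (hF : IsZarLocal F)

include hF in
theorem existsUnique_compat {A : CommAlgCat.{u} R} (g : test A ⟶ glued 𝔄) : ∃! x, Compat 𝔄 g x := by
  have huniq : ∀ x y, Compat 𝔄 g x → Compat 𝔄 g y → x = y := fun x y hx hy =>
    hF.sep A _ (span_small 𝔄 g) x y fun r ⟨i, b, hb⟩ => (hx _ _ i b hb).trans (hy _ _ i b hb).symm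
  choose i b hb using fun r : small 𝔄 g => r.2
  obtain ⟨z, hz⟩ := hF.glue A _ (span_small 𝔄 g) (fun r => ev 𝔄 (b r)) (fun r t B φ ψ h => by
    rw [← ev_tmap, ← ev_tmap, ← ev_eq_iff, Category.assoc, Category.assoc, ← hb, ← hb, ← Category.assoc,
      ← Category.assoc, ← tmap_comp, ← tmap_comp, h])
  refine ⟨z, ?_, fun y hy => huniq y z hy ?_⟩
  all_goals
    intro B φ j c hc
    have hspan : Ideal.span (φ.hom '' small 𝔄 g) = ⊤ := by
      rw [← Ideal.map_span φ.hom (small 𝔄 g), span_small, Ideal.map_top]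
    refine hF.sep B _ hspan _ _ ?_
    rintro _ ⟨r, hr, rfl⟩
    let φr : loc A r ⟶ loc B (φ.hom r) := algHomMk
      (IsLocalization.liftAlgHom (M := Submonoid.powers r)
        (f := (IsScalarTower.toAlgHom R B (Localization.Away (φ.hom r))).comp φ.hom) (fun y => by
          obtain ⟨n, hn⟩ := y.2
          rw [← hn, map_pow]
          exact (IsLocalization.Away.algebraMap_isUnit (φ.hom r)).pow n))
    have hφr : locMap A r ≫ φr = φ ≫ locMap B (φ.hom r) :=
      CommAlgCat.hom_ext (AlgHom.ext fun a => IsLocalization.lift_eq _ a)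
    rw [map_map, ← hφr, ← map_map, hz ⟨r, hr⟩, ← ev_tmap, ← ev_tmap, ← ev_eq_iff, Category.assoc, ← hb,
      ← Category.assoc, ← tmap_comp, hφr, tmap_comp, Category.assoc, hc, Category.assoc]

/-- The element attached to a test point. -/
noncomputable def phi (A : CommAlgCat.{u} R) (g : test A ⟶ glued 𝔄) : F.obj A :=
  (existsUnique_compat 𝔄 hF g).choose

theorem phi_spec {A : CommAlgCat.{u} R} (g : test A ⟶ glued 𝔄) : Compat 𝔄 g (phi 𝔄 hF A g) :=
  (existsUnique_compat 𝔄 hF g).choose_spec.1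

theorem phi_tmap {A B : CommAlgCat.{u} R} (φ : A ⟶ B) (g : test A ⟶ glued 𝔄) :
    phi 𝔄 hF B (tmap φ ≫ g) = F.map φ (phi 𝔄 hF A g) :=
  ((existsUnique_compat 𝔄 hF (tmap φ ≫ g)).choose_spec.2 _ fun C ψ i b hb => by
    rw [map_map]
    exact phi_spec 𝔄 hF g C _ i b (by rw [tmap_comp, Category.assoc]; exact hb)).symm

theorem phi_glι {A : CommAlgCat.{u} R} {i : 𝔄.J} (b : test A ⟶ chartO 𝔄 i) :
    phi 𝔄 hF A (b ≫ glι 𝔄 i) = ev 𝔄 b := by
  have h := phi_spec 𝔄 hF (b ≫ glι 𝔄 i) A (𝟙 A) i b (by rw [tmap_id, Category.id_comp])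
  rwa [F.map_id] at h

include hF in
theorem phi_bijective (A : CommAlgCat.{u} R) : Function.Bijective (phi 𝔄 hF A) := by
  refine ⟨fun g g' h => ?_, fun x => ?_⟩
  · -- agree on a common refinement
    let U := awayCover A (small 𝔄 g) (span_small 𝔄 g)
    refine Over.OverMorphism.ext (Scheme.Cover.hom_ext U _ _ fun r => ?_)
    obtain ⟨i, b, hb⟩ := r.2
    let B := loc A r.1
    suffices h' : tmap (locMap A r.1) ≫ g = tmap (locMap A r.1) ≫ g' from congrArg CommaMorphism.left h'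
    let T : CommAlgCat.{u} R := B
    let U' := awayCover B (small 𝔄 (tmap (locMap A r.1) ≫ g')) (span_small 𝔄 _)
    refine Over.OverMorphism.ext (Scheme.Cover.hom_ext U' _ _ fun t => ?_)
    obtain ⟨j, c, hc⟩ := t.2
    suffices h'' : tmap (locMap B t.1) ≫ tmap (locMap A r.1) ≫ g = tmap (locMap B t.1) ≫ tmap (locMap A r.1) ≫ g' from
      congrArg CommaMorphism.left h''
    rw [hc, hb, ← Category.assoc, ev_eq_iff, ← phi_glι 𝔄 hF (tmap (locMap B t.1) ≫ b), ← phi_glι 𝔄 hF c,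
      Category.assoc, ← hb, ← hc, phi_tmap, phi_tmap, h, phi_tmap, phi_tmap]
  · let s := {r : A | ∃ (i : 𝔄.J) (ψ : 𝔄.C i ⟶ loc A r), F.map ψ (𝔄.u i) = F.map (locMap A r) x}
    let U := awayCover A s (𝔄.cover A x)
    choose i ψ hψ using fun r : s => r.2
    let m : ∀ r : s, test (loc A r.1) ⟶ glued 𝔄 := fun r => tmap (ψ r) ≫ glι 𝔄 (i r)
    have hm : ∀ (r : s) (B : CommAlgCat.{u} R) (φ : loc A r.1 ⟶ B),
        ev 𝔄 (tmap φ ≫ tmap (ψ r)) = F.map (locMap A r.1 ≫ φ) x := fun r B φ => by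
      rw [ev_tmap, ev, testHom_tmap, hψ, map_map]
    have hcompat : ∀ r t : s, pullback.fst (U.f r) (U.f t) ≫ (m r).left = pullback.snd (U.f r) (U.f t) ≫ (m t).left := by
      intro r t
      let W : Over (Spec (CommRingCat.of R)) := Over.mk (pullback.fst (U.f r) (U.f t) ≫ (test (loc A r.1)).hom)
      let w₁ : W ⟶ test (loc A r.1) := Over.homMk (pullback.fst (U.f r) (U.f t)) rfl
      let w₂ : W ⟶ test (loc A t.1) := Over.homMk (pullback.snd (U.f r) (U.f t)) (by
        show _ ≫ (test (loc A t.1)).hom = pullback.fst (U.f r) (U.f t) ≫ (test (loc A r.1)).hom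
        rw [← Over.w (tmap (locMap A r.1)), ← Over.w (tmap (locMap A t.1)), ← Category.assoc, ← Category.assoc]
        exact congrArg (· ≫ (test A).hom) pullback.condition.symm)
      suffices h' : w₁ ≫ m r = w₂ ≫ m t from congrArg CommaMorphism.left h'
      refine hom_ext_points fun B h => ?_
      have hw : w₁ ≫ tmap (locMap A r.1) = w₂ ≫ tmap (locMap A t.1) := Over.OverMorphism.ext pullback.condition
      have e₁ : h ≫ w₁ = tmap (testHom (h ≫ w₁)) := (tmap_testHom _).symm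
      have e₂ : h ≫ w₂ = tmap (testHom (h ≫ w₂)) := (tmap_testHom _).symm
      refine (Category.assoc _ _ _).symm.trans (Eq.trans ?_ (Category.assoc _ _ _))
      rw [e₁, e₂]
      show tmap _ ≫ tmap (ψ r) ≫ glι 𝔄 (i r) = tmap _ ≫ tmap (ψ t) ≫ glι 𝔄 (i t)
      rw [← Category.assoc, ← Category.assoc, ev_eq_iff, hm, hm]
      congr 1
      rw [← testHom_tmap (locMap A r.1), ← testHom_comp, ← testHom_tmap (locMap A t.1), ← testHom_comp,
        Category.assoc, Category.assoc, hw]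
    let g₀ := Scheme.Cover.glueMorphisms U (fun r => (m r).left) hcompat
    have hg₀ : ∀ r, U.f r ≫ g₀ = (m r).left := fun r => Scheme.Cover.ι_glueMorphisms U _ hcompat r
    let g : test A ⟶ glued 𝔄 := Over.homMk g₀ (Scheme.Cover.hom_ext U _ _ fun r => by
      rw [← Category.assoc, hg₀, Over.w (m r)]
      exact (Over.w (tmap (locMap A r.1))).symm)
    refine ⟨g, hF.sep A s (𝔄.cover A x) _ _ fun r hr => ?_⟩
    rw [← phi_tmap, show tmap (locMap A r) ≫ g = m ⟨r, hr⟩ from Over.OverMorphism.ext (hg₀ ⟨r, hr⟩), phi_glι,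
      ev, testHom_tmap, hψ]

/-- The glued scheme represents the functor on test schemes. -/
noncomputable def repEquiv (A : CommAlgCat.{u} R) : (test A ⟶ glued 𝔄) ≃ F.obj A :=
  Equiv.ofBijective _ (phi_bijective 𝔄 hF A)

theorem repEquiv_natural (A B : CommAlgCat.{u} R) (φ : A ⟶ B) (g : test A ⟶ glued 𝔄) (g' : test B ⟶ glued 𝔄)
    (h : g'.left = Spec.map (CommRingCat.ofHom φ.hom.toRingHom) ≫ g.left) :
    repEquiv 𝔄 hF B g' = F.map φ (repEquiv 𝔄 hF A g) := by
  rw [show g' = tmap φ ≫ g from Over.OverMorphism.ext h]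
  exact phi_tmap 𝔄 hF φ g

end Groth.Agent.GrassRepLib
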