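import Mathlib
import Groth.Agent.GrassRepLib.Rep

/-! The Grassmannian functor is Zariski local. -/

set_option autoImplicit false
set_option backward.isDefEq.respectTransparency false
set_option backward.isDefEq.respectTransparency.types false
set_option linter.style.haveILetI false
set_option maxHeartbeats 800000

universe u

open CategoryTheory TensorProduct Module

namespace Groth.Agent.GrassRepLib

open HilbDescLib

variable {R : Type u} [CommRing R] (M : Type u) [AddCommGroup M] [Module R M] {k : ℕ}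

section maps

variable {A B C : Type u} [CommRing A] [Algebra R A] [CommRing B] [Algebra R B] [CommRing C] [Algebra R C]

/-- Extension of scalars of elements. -/
noncomputable def ext₁ (f : A →ₐ[R] B) : A ⊗[R] M →ₗ[R] B ⊗[R] M := f.toLinearMap.rTensor M

theorem ext₁_tmul (f : A →ₐ[R] B) (a : A) (m : M) : ext₁ M f (a ⊗ₜ m) = f a ⊗ₜ m := rfl

theorem ext₁_smul (f : A →ₐ[R] B) (a : A) (x : A ⊗[R] M) : ext₁ M f (a • x) = f a • ext₁ M f x := by
  induction x using TensorProduct.induction_on with
  | zero => simp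
  | tmul b m => simp [ext₁_tmul, TensorProduct.smul_tmul']
  | add x y hx hy => simp only [smul_add, map_add, hx, hy]

theorem ext₁_comp (f : A →ₐ[R] B) (g : B →ₐ[R] C) (x : A ⊗[R] M) : ext₁ M g (ext₁ M f x) = ext₁ M (g.comp f) x := by
  induction x using TensorProduct.induction_on with
  | zero => simp
  | tmul b m => simp [ext₁_tmul]
  | add x y hx hy => simp only [map_add, hx, hy]

variable {M}

theorem ext₁_mem_map (f : A →ₐ[R] B) (N : Grassmannian A (A ⊗[R] M) k) {x : A ⊗[R] M} (hx : x ∈ N.toSubmodule) :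
    ext₁ M f x ∈ (Grassmannian.map f N).toSubmodule := by
  letI : Algebra A B := f.toAlgebra
  haveI : IsScalarTower R A B := IsScalarTower.of_algebraMap_eq' f.comp_algebraMap.symm
  have h : ∀ y, Grassmannian.baseChangeMkQ B N.toSubmodule (ext₁ M f y) = (1 : B) ⊗ₜ[A] Submodule.Quotient.mk y := by
    intro y
    induction y using TensorProduct.induction_on with
    | zero => simp
    | tmul a m =>
      simp only [ext₁_tmul, Grassmannian.baseChangeMkQ, LinearMap.comp_apply, LinearEquiv.coe_coe,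
        AlgebraTensorModule.cancelBaseChange_symm_tmul, LinearMap.baseChange_tmul, Submodule.mkQ_apply]
      rw [show a ⊗ₜ[R] m = a • ((1 : A) ⊗ₜ[R] m) by rw [TensorProduct.smul_tmul', smul_eq_mul, mul_one],
        Submodule.Quotient.mk_smul, ← TensorProduct.smul_tmul, Algebra.smul_def, mul_one]
      rfl
    | add y z hy hz => simp only [map_add, Submodule.Quotient.mk_add, TensorProduct.tmul_add, hy, hz]
  show Grassmannian.baseChangeMkQ B N.toSubmodule (ext₁ M f x) = 0
  rw [h, (Submodule.Quotient.mk_eq_zero _).2 hx, TensorProduct.tmul_zero]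

end maps

section loc

variable {A B : Type u} [CommRing A] [Algebra R A] [CommRing B] [Algebra R B] [Algebra A B] [IsScalarTower R A B]
  (r : A) [IsLocalization.Away r B]

variable {M}

theorem exists_pow_smul_eq (z : B ⊗[R] M) :
    ∃ (n : ℕ) (y : A ⊗[R] M), algebraMap A B r ^ n • z = ext₁ M (IsScalarTower.toAlgHom R A B) y := by
  induction z using TensorProduct.induction_on with
  | zero => exact ⟨0, 0, by simp⟩
  | tmul b m =>
    obtain ⟨n, a, h⟩ := IsLocalization.Away.surj r b
    exact ⟨n, a ⊗ₜ m, by rw [ext₁_tmul, TensorProduct.smul_tmul', smul_eq_mul, mul_comm, h]; rfl⟩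
  | add x y hx hy =>
    obtain ⟨n, a, ha⟩ := hx
    obtain ⟨l, c, hc⟩ := hy
    refine ⟨n + l, r ^ l • a + r ^ n • c, ?_⟩
    rw [smul_add, map_add, ext₁_smul, ext₁_smul, ← ha, ← hc, smul_smul, smul_smul]
    simp [pow_add, mul_comm]

include r in
theorem submodule_ext_loc {p q : Submodule B (B ⊗[R] M)}
    (h : ∀ y, ext₁ M (IsScalarTower.toAlgHom R A B) y ∈ p ↔ ext₁ M (IsScalarTower.toAlgHom R A B) y ∈ q) : p = q := by
  ext z
  obtain ⟨n, y, hy⟩ := exists_pow_smul_eq r z
  have hu : IsUnit (algebraMap A B r ^ n) := (IsLocalization.Away.algebraMap_isUnit r).pow n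
  rw [← Submodule.smul_mem_iff_of_isUnit p hu, ← Submodule.smul_mem_iff_of_isUnit q hu, hy]
  exact h y

theorem map_toSubmodule_aux (f : A →ₐ[R] B) (alg : Algebra A B) (h : alg = f.toAlgebra)
    (tow : @IsScalarTower R A B _ alg.toSMul _) (N : Grassmannian A (A ⊗[R] M) k) :
    (Grassmannian.map f N).toSubmodule =
      LinearMap.ker (@Grassmannian.baseChangeMkQ R _ M _ _ A _ _ B _ _ alg tow N.toSubmodule) := by
  subst h
  rfl

theorem ext₁_mem_map_iff (N : Grassmannian A (A ⊗[R] M) k) (y : A ⊗[R] M) :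
    ext₁ M (IsScalarTower.toAlgHom R A B) y ∈ (Grassmannian.map (IsScalarTower.toAlgHom R A B) N).toSubmodule ↔
      ∃ n : ℕ, r ^ n • y ∈ N.toSubmodule := by
  constructor
  · intro h
    have halg : (IsScalarTower.toAlgHom R A B).toRingHom.toAlgebra = ‹Algebra A B› := Algebra.algebra_ext _ _ fun _ => rfl
    have hbc : ∀ y, Grassmannian.baseChangeMkQ B N.toSubmodule (ext₁ M (IsScalarTower.toAlgHom R A B) y) =
        (1 : B) ⊗ₜ[A] Submodule.Quotient.mk y := by
      intro y
      induction y using TensorProduct.induction_on with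
      | zero => simp
      | tmul a m =>
        simp only [ext₁_tmul, Grassmannian.baseChangeMkQ, LinearMap.comp_apply, LinearEquiv.coe_coe,
          AlgebraTensorModule.cancelBaseChange_symm_tmul, LinearMap.baseChange_tmul, Submodule.mkQ_apply]
        rw [show a ⊗ₜ[R] m = a • ((1 : A) ⊗ₜ[R] m) by rw [TensorProduct.smul_tmul', smul_eq_mul, mul_one],
          Submodule.Quotient.mk_smul, ← TensorProduct.smul_tmul, Algebra.smul_def, mul_one]
        rfl
      | add y z hy hz => simp only [map_add, Submodule.Quotient.mk_add, TensorProduct.tmul_add, hy, hz]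
    have h0 : (1 : B) ⊗ₜ[A] (Submodule.Quotient.mk y : (A ⊗[R] M) ⧸ N.toSubmodule) = 0 := by
      rw [← hbc]
      rw [map_toSubmodule_aux (IsScalarTower.toAlgHom R A B) _ halg.symm inferInstance] at h
      exact h
    obtain ⟨⟨_, n, rfl⟩, hn⟩ := (IsLocalizedModule.eq_zero_iff (Submonoid.powers r)
      (TensorProduct.mk A B ((A ⊗[R] M) ⧸ N.toSubmodule) 1)).1 h0
    refine ⟨n, (Submodule.Quotient.mk_eq_zero _).1 ?_⟩
    rw [Submodule.Quotient.mk_smul]
    exact hn
  · rintro ⟨n, hn⟩
    have h := ext₁_mem_map (IsScalarTower.toAlgHom R A B) N hn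
    rw [ext₁_smul] at h
    rwa [Submodule.smul_mem_iff_of_isUnit _ ((IsLocalization.Away.algebraMap_isUnit r).map (RingHom.id B) |>.pow n |>
      fun h' => by simpa using h')] at h

variable (N : Submodule A (A ⊗[R] M)) (W : Submodule B (B ⊗[R] M))
  (hNW : ∀ y, ext₁ M (IsScalarTower.toAlgHom R A B) y ∈ W ↔ ∃ n : ℕ, r ^ n • y ∈ N)

/-- The map from a quotient to the quotient over a localisation. -/
noncomputable def quotMap (h : ∀ y ∈ N, ext₁ M (IsScalarTower.toAlgHom R A B) y ∈ W) :
    ((A ⊗[R] M) ⧸ N) →ₗ[A] (B ⊗[R] M) ⧸ W :=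
  N.liftQ
    { toFun := fun y => Submodule.Quotient.mk (ext₁ M (IsScalarTower.toAlgHom R A B) y)
      map_add' := fun x y => by rw [map_add, Submodule.Quotient.mk_add]
      map_smul' := fun a x => by
        rw [ext₁_smul, RingHom.id_apply, Submodule.Quotient.mk_smul]
        exact algebraMap_smul B a _ }
    (fun y hy => (Submodule.Quotient.mk_eq_zero _).2 (h y hy))

include hNW in
theorem isLocalized_quotMap :
    IsLocalizedModule (Submonoid.powers r) (quotMap N W fun y hy => (hNW y).2 ⟨0, by simpa using hy⟩) := by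
  refine ⟨?_, ?_, ?_⟩
  · rintro ⟨_, n, rfl⟩
    have hu : IsUnit (algebraMap A B r ^ n) := (IsLocalization.Away.algebraMap_isUnit r).pow n
    rw [Module.End.isUnit_iff]
    have heq : ∀ x : (B ⊗[R] M) ⧸ W, algebraMap A (Module.End A _) (r ^ n) x = algebraMap A B r ^ n • x := fun x => by
      rw [Module.algebraMap_end_apply, ← map_pow, algebraMap_smul]
    refine ⟨fun x y hxy => ?_, fun x => ⟨(↑hu.unit⁻¹ : B) • x, ?_⟩⟩
    · simp only [heq] at hxy
      exact hu.smul_left_cancel.1 hxy
    · rw [heq, smul_smul, IsUnit.mul_val_inv, one_smul]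
  · intro z
    obtain ⟨z, rfl⟩ := Submodule.Quotient.mk_surjective _ z
    obtain ⟨n, y, hy⟩ := exists_pow_smul_eq r z
    refine ⟨(Submodule.Quotient.mk y, ⟨r ^ n, n, rfl⟩), ?_⟩
    show r ^ n • (Submodule.Quotient.mk z : (B ⊗[R] M) ⧸ W) = Submodule.Quotient.mk _
    rw [← hy, Submodule.Quotient.mk_smul, ← map_pow, algebraMap_smul]
  · intro x₁ x₂ h
    obtain ⟨y₁, rfl⟩ := Submodule.Quotient.mk_surjective _ x₁
    obtain ⟨y₂, rfl⟩ := Submodule.Quotient.mk_surjective _ x₂
    have h' : ext₁ M (IsScalarTower.toAlgHom R A B) (y₁ - y₂) ∈ W := by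
      rw [map_sub]
      exact (Submodule.Quotient.eq W).1 h
    obtain ⟨n, hn⟩ := (hNW _).1 h'
    refine ⟨⟨r ^ n, n, rfl⟩, ?_⟩
    show r ^ n • (Submodule.Quotient.mk y₁ : (A ⊗[R] M) ⧸ N) = r ^ n • Submodule.Quotient.mk y₂
    rw [← Submodule.Quotient.mk_smul, ← Submodule.Quotient.mk_smul, Submodule.Quotient.eq, ← smul_sub]
    exact hn

end loc

theorem ext₁_locMap (A : CommAlgCat.{u} R) (r : A) :
    (locMap A r).hom = IsScalarTower.toAlgHom R A (Localization.Away r) := rfl

variable {M}

theorem mem_locMap_iff {A : CommAlgCat.{u} R} (r : A) (N : Grassmannian A (TensorProduct R A M) k) (y : TensorProduct R A M) :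
    ext₁ M (locMap A r).hom y ∈ (Grassmannian.map (locMap A r).hom N).toSubmodule ↔ ∃ n : ℕ, r ^ n • y ∈ N.toSubmodule :=
  ext₁_mem_map_iff (A := (A : Type u)) (B := Localization.Away r) r N y

section

variable {A : Type u} [CommRing A] [Algebra R A]

theorem transfer {Ar Aq B : Type u} [CommRing Ar] [Algebra R Ar] [CommRing Aq] [Algebra R Aq] [Algebra A Aq]
    [IsScalarTower R A Aq] [CommRing B] [Algebra R B] [Algebra Aq B] [IsScalarTower R Aq B]
    (fr : A →ₐ[R] Ar) (φ : Ar →ₐ[R] B) (r : A) [IsLocalization.Away (algebraMap A Aq r) B]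
    (hcomm : φ.comp fr = (IsScalarTower.toAlgHom R Aq B).comp (IsScalarTower.toAlgHom R A Aq))
    (xr : Grassmannian Ar (Ar ⊗[R] M) k) (xq : Grassmannian Aq (Aq ⊗[R] M) k)
    (hx : Grassmannian.map φ xr = Grassmannian.map (IsScalarTower.toAlgHom R Aq B) xq)
    (y : A ⊗[R] M) (hy : ext₁ M fr y ∈ xr.toSubmodule) :
    ∃ n : ℕ, ext₁ M (IsScalarTower.toAlgHom R A Aq) (r ^ n • y) ∈ xq.toSubmodule := by
  have h1 := ext₁_mem_map φ xr hy
  rw [ext₁_comp, hx, hcomm, ← ext₁_comp] at h1
  obtain ⟨n, hn⟩ := (ext₁_mem_map_iff (algebraMap A Aq r) xq _).1 h1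
  refine ⟨n, ?_⟩
  rw [ext₁_smul, map_pow]
  exact hn

theorem glue_finite (t : Finset A) (ht : Ideal.span (t : Set A) = ⊤)
    (x : ∀ r : (t : Set A), Grassmannian (Localization.Away r.1) (Localization.Away r.1 ⊗[R] M) k)
    (hc : ∀ (r q : (t : Set A)) (y : A ⊗[R] M),
      ext₁ M (IsScalarTower.toAlgHom R A (Localization.Away r.1)) y ∈ (x r).toSubmodule →
        ∃ n : ℕ, ext₁ M (IsScalarTower.toAlgHom R A (Localization.Away q.1)) (r.1 ^ n • y) ∈ (x q).toSubmodule) :
    ∃ z : Grassmannian A (A ⊗[R] M) k,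
      ∀ r, Grassmannian.map (IsScalarTower.toAlgHom R A (Localization.Away r.1)) z = x r := by
  classical
  let N : Submodule A (A ⊗[R] M) :=
    { carrier := {y | ∀ r : (t : Set A), ext₁ M (IsScalarTower.toAlgHom R A (Localization.Away r.1)) y ∈ (x r).toSubmodule}
      add_mem' := fun ha hb r => by rw [map_add]; exact add_mem (ha r) (hb r)
      zero_mem' := fun r => by rw [map_zero]; exact zero_mem _
      smul_mem' := fun a y hy r => by rw [ext₁_smul]; exact Submodule.smul_mem _ _ (hy r) }
  have hkey : ∀ (r : (t : Set A)) (y : A ⊗[R] M),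
      ext₁ M (IsScalarTower.toAlgHom R A (Localization.Away r.1)) y ∈ (x r).toSubmodule ↔ ∃ n : ℕ, r.1 ^ n • y ∈ N := by
    intro r y
    constructor
    · intro hy
      choose n hn using fun q => hc r q y hy
      refine ⟨Finset.univ.sup n, fun q => ?_⟩
      obtain ⟨d, hd⟩ := Nat.le.dest (Finset.le_sup (f := n) (Finset.mem_univ q))
      rw [← hd, pow_add, mul_comm, mul_smul, ext₁_smul]
      exact Submodule.smul_mem _ _ (hn q)
    · rintro ⟨n, hn⟩
      have h := hn r
      rw [ext₁_smul] at h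
      refine (Submodule.smul_mem_iff_of_isUnit _ ?_).1 h
      rw [map_pow]
      exact (IsLocalization.Away.algebraMap_isUnit (S := Localization.Away r.1) r.1).pow n
  haveI hloc : ∀ r : (t : Set A), IsLocalizedModule (Submonoid.powers r.1)
      (quotMap (B := Localization.Away r.1) N (x r).toSubmodule fun y hy => hy r) := fun r =>
    isLocalized_quotMap (B := Localization.Away r.1) r.1 N _ (hkey r)
  haveI hfp : Module.FinitePresentation A ((A ⊗[R] M) ⧸ N) :=
    Module.FinitePresentation.of_localizationSpan' (t : Set A) ht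
      (Rₚ := fun r => Localization.Away r.1)
      (fun r => quotMap (B := Localization.Away r.1) N (x r).toSubmodule fun y hy => hy r)
      (fun r => Module.finitePresentation_of_projective _ _)
  haveI hflat : Module.Flat A ((A ⊗[R] M) ⧸ N) :=
    Module.flat_of_isLocalized_span (R := A) A _ (t : Set A) ht
      (fun r => (Localization.Away r.1 ⊗[R] M) ⧸ (x r).toSubmodule)
      (fun r => quotMap (B := Localization.Away r.1) N (x r).toSubmodule fun y hy => hy r)
      (fun r => Module.Flat.trans A (Localization.Away r.1) _)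
  haveI hproj : Module.Projective A ((A ⊗[R] M) ⧸ N) := Module.Flat.projective_of_finitePresentation
  have hrank : ∀ p, Module.rankAtStalk (R := A) ((A ⊗[R] M) ⧸ N) p = k := by
    intro p
    obtain ⟨r, hr, hp⟩ : ∃ r ∈ (t : Set A), r ∉ p.asIdeal := by
      by_contra h
      push Not at h
      exact p.2.ne_top (top_le_iff.1 (ht ▸ Ideal.span_le.2 h))
    obtain ⟨q, rfl⟩ : p ∈ Set.range (PrimeSpectrum.comap (algebraMap A (Localization.Away r))) := by
      rw [PrimeSpectrum.localization_away_comap_range (Localization.Away r) r]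
      exact hp
    haveI := hloc ⟨r, hr⟩
    rw [← Module.rankAtStalk_isBaseChange
      (IsLocalizedModule.isBaseChange (Submonoid.powers r) (Localization.Away r)
        (quotMap (B := Localization.Away r) N (x ⟨r, hr⟩).toSubmodule fun y hy => hy ⟨r, hr⟩)) q]
    exact (x ⟨r, hr⟩).rankAtStalk_eq q
  let z : Grassmannian A (A ⊗[R] M) k := ⟨N, inferInstance, hproj, hrank⟩
  exact ⟨z, fun r => Grassmannian.ext (submodule_ext_loc (B := Localization.Away r.1) r.1 fun y =>
    (ext₁_mem_map_iff (B := Localization.Away r.1) r.1 z y).trans (hkey r y).symm)⟩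

end

variable (R M k) in
theorem isZarLocal_grass : IsZarLocal (Grassmannian.functor (R := R) (M := M) k) := by
  classical
  have hsep : ∀ (A : CommAlgCat.{u} R) (s : Set A), Ideal.span s = ⊤ → ∀ x y : Grassmannian A (TensorProduct R A M) k,
      (∀ r ∈ s, Grassmannian.map (locMap A r).hom x = Grassmannian.map (locMap A r).hom y) → x = y := by
    intro A s hs x y hxy
    refine Grassmannian.ext (Submodule.ext fun z => ?_)
    constructor <;> intro hz <;> refine Submodule.mem_of_span_eq_top_of_smul_pow_mem _ s hs _ fun r => ?_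
    · rw [← mem_locMap_iff, ← hxy _ r.2]
      exact ext₁_mem_map _ _ hz
    · rw [← mem_locMap_iff, hxy _ r.2]
      exact ext₁_mem_map _ _ hz
  refine ⟨fun A s hs x y h => hsep A s hs x y h, fun A s hs x hx => ?_⟩
  obtain ⟨t, hts, ht⟩ := (Ideal.span_eq_top_iff_finite s).1 hs
  let x' : ∀ r : s, Grassmannian (Localization.Away r.1) (TensorProduct R (Localization.Away r.1) M) k := x
  let ι : (r : (t : Set A)) → s := fun r => ⟨r.1, hts r.2⟩
  have hc : ∀ (r q : (t : Set A)) (y : TensorProduct R A M),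
      ext₁ M (IsScalarTower.toAlgHom R A (Localization.Away r.1)) y ∈ (x' (ι r)).toSubmodule →
        ∃ n : ℕ, ext₁ M (IsScalarTower.toAlgHom R A (Localization.Away q.1)) (r.1 ^ n • y) ∈ (x' (ι q)).toSubmodule := by
    intro r q y hy
    let r' : loc A q.1 := algebraMap A (Localization.Away q.1) r.1
    let ψ := locMap (loc A q.1) r'
    let φ : loc A r.1 ⟶ loc (loc A q.1) r' := algHomMk
      (IsLocalization.liftAlgHom (M := Submonoid.powers r.1) (f := ((locMap A q.1) ≫ ψ).hom) (fun y => by
        obtain ⟨n, hn⟩ := y.2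
        rw [← hn, map_pow]
        exact (IsLocalization.Away.algebraMap_isUnit r').pow n))
    have hφ : locMap A r.1 ≫ φ = locMap A q.1 ≫ ψ :=
      CommAlgCat.hom_ext (AlgHom.ext fun a => IsLocalization.lift_eq _ a)
    exact transfer (Ar := Localization.Away r.1) (Aq := Localization.Away q.1) (B := Localization.Away r')
      (IsScalarTower.toAlgHom R A (Localization.Away r.1)) φ.hom r.1 (congrArg CommAlgCat.Hom.hom hφ)
      (x' (ι r)) (x' (ι q)) (hx (ι r) (ι q) _ φ ψ hφ) y hy
  obtain ⟨z, hz⟩ := glue_finite t ht (fun r => x' (ι r)) hc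
  refine ⟨z, fun r => ?_⟩
  -- the other members of the cover
  refine hsep (loc A r.1) ((locMap A r.1).hom '' (t : Set A)) ?_ _ _ ?_
  · rw [← Ideal.map_span (locMap A r.1).hom, ht, Ideal.map_top]
  rintro _ ⟨q, hq, rfl⟩
  let B := loc (loc A r.1) ((locMap A r.1).hom q)
  let ψ : loc A r.1 ⟶ B := locMap (loc A r.1) ((locMap A r.1).hom q)
  let φ : loc A q ⟶ B := algHomMk
    (IsLocalization.liftAlgHom (M := Submonoid.powers q) (f := ((locMap A r.1) ≫ ψ).hom) (fun y => by
      obtain ⟨n, hn⟩ := y.2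
      rw [← hn, map_pow]
      exact (IsLocalization.Away.algebraMap_isUnit ((locMap A r.1).hom q)).pow n))
  have hφ : locMap A q ≫ φ = locMap A r.1 ≫ ψ := CommAlgCat.hom_ext (AlgHom.ext fun a => IsLocalization.lift_eq _ a)
  refine Eq.trans ?_ (hx (ι ⟨q, hq⟩) r B φ ψ hφ)
  refine Eq.trans ?_ (congrArg (Grassmannian.map φ.hom) (hz ⟨q, hq⟩))
  show Grassmannian.map ψ.hom (Grassmannian.map (locMap A r.1).hom z) = _
  rw [← Grassmannian.map_comp, ← Grassmannian.map_comp]
  exact congrArg (fun f : A ⟶ B => Grassmannian.map f.hom z) hφ.symm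

end Groth.Agent.GrassRepLib
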