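import Mathlib
import Groth.Agent.GrassRepLib.Local

/-! The standard charts of the Grassmannian of a free module. -/

set_option autoImplicit false
set_option backward.isDefEq.respectTransparency false
set_option backward.isDefEq.respectTransparency.types false
set_option linter.style.haveILetI false
set_option maxHeartbeats 800000

universe u

open CategoryTheory TensorProduct Module

namespace Groth.Agent.GrassRepLib

open HilbDescLib

variable {R : Type u} [CommRing R] {n k : ℕ} {A B : Type u} [CommRing A] [Algebra R A] [CommRing B] [Algebra R B]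

variable (R A) in
/-- A standard generator. -/
noncomputable def stdGen (j : Fin n) : A ⊗[R] (Fin n → R) := (1 : A) ⊗ₜ Pi.single j 1

variable (R A n) in
/-- The standard basis. -/
noncomputable def stdBasis : Basis (Fin n) A (A ⊗[R] (Fin n → R)) := (Pi.basisFun R (Fin n)).baseChange A

theorem stdBasis_apply (j : Fin n) : stdBasis R n A j = stdGen R A j := by
  rw [stdBasis, Module.Basis.baseChange_apply, Pi.basisFun_apply, stdGen]

theorem ext₁_stdGen (f : A →ₐ[R] B) (j : Fin n) : ext₁ (Fin n → R) f (stdGen R A j) = stdGen R B j := by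
  rw [stdGen, ext₁_tmul, map_one, stdGen]

/-- The images of the generators indexed by `I`, as a map. -/
noncomputable def vMap (N : Submodule A (A ⊗[R] (Fin n → R))) (I : Fin k → Fin n) :
    (Fin k → A) →ₗ[A] (A ⊗[R] (Fin n → R)) ⧸ N :=
  Fintype.linearCombination A fun a => Submodule.Quotient.mk (stdGen R A (I a))

theorem vMap_apply (N : Submodule A (A ⊗[R] (Fin n → R))) (I : Fin k → Fin n) (w : Fin k → A) :
    vMap N I w = ∑ a, w a • Submodule.Quotient.mk (stdGen R A (I a)) := Fintype.linearCombination_apply _ _ _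

/-- The generators indexed by `I` span the quotient. -/
def InC (N : Submodule A (A ⊗[R] (Fin n → R))) (I : Fin k → Fin n) : Prop := Function.Surjective (vMap N I)

/-- Coordinates with respect to the generators indexed by `I`. -/
def HasCoord (N : Submodule A (A ⊗[R] (Fin n → R))) (I : Fin k → Fin n) (c : Fin n → Fin k → A) : Prop :=
  ∀ j, stdGen R A j - ∑ a, c j a • stdGen R A (I a) ∈ N

theorem hasCoord_iff (N : Submodule A (A ⊗[R] (Fin n → R))) (I : Fin k → Fin n) (c : Fin n → Fin k → A) :
    HasCoord N I c ↔ ∀ j, (Submodule.Quotient.mk (stdGen R A j) : (A ⊗[R] (Fin n → R)) ⧸ N) = vMap N I (c j) := by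
  refine forall_congr' fun j => ?_
  rw [← Submodule.Quotient.mk_eq_zero, Submodule.Quotient.mk_sub, sub_eq_zero, vMap_apply]
  simp only [← Submodule.Quotient.mk_smul]
  rw [← Submodule.mkQ_apply, ← Submodule.mkQ_apply, map_sum]
  rfl

theorem inC_iff (N : Submodule A (A ⊗[R] (Fin n → R))) (I : Fin k → Fin n) : InC N I ↔ ∃ c, HasCoord N I c := by
  simp only [hasCoord_iff]
  constructor
  · intro h
    exact ⟨fun j => (h (Submodule.Quotient.mk (stdGen R A j))).choose, fun j => (h _).choose_spec.symm⟩
  · rintro ⟨c, hc⟩ q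
    obtain ⟨x, rfl⟩ := N.mkQ_surjective q
    refine (?_ : N.mkQ x ∈ LinearMap.range (vMap N I))
    rw [← (stdBasis R n A).sum_repr x, map_sum]
    refine Submodule.sum_mem _ fun j _ => ?_
    rw [map_smul]
    exact Submodule.smul_mem _ _ ⟨c j, by rw [stdBasis_apply]; exact (hc j).symm⟩

theorem injective_of_surjective_rank {P : Type u} [AddCommGroup P] [Module A P] [Module.Finite A P] [Module.Projective A P]
    (hP : ∀ p, Module.rankAtStalk (R := A) P p = k) (v : (Fin k → A) →ₗ[A] P) (hv : Function.Surjective v) :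
    Function.Injective v := by
  obtain ⟨s, hs⟩ := Module.projective_lifting_property v LinearMap.id hv
  have hs' : ∀ q, v (s q) = q := fun q => congrArg (fun f => f q) hs
  let e : (Fin k → A) ≃ₗ[A] P × LinearMap.ker v :=
    LinearEquiv.ofLinear (v.prod ((LinearMap.id - s ∘ₗ v).codRestrict _ (fun w => by simp [hs'])))
      (s.coprod (LinearMap.ker v).subtype)
      (LinearMap.ext fun ⟨q, x⟩ => by
        have hx : v x.1 = 0 := x.2
        refine Prod.ext (by simp [hs', hx]) (Subtype.ext ?_)
        simp [hs', hx])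
      (LinearMap.ext fun w => by simp)
  haveI : Module.Finite A (LinearMap.ker v) :=
    Module.Finite.of_surjective ((LinearMap.snd A P (LinearMap.ker v)) ∘ₗ e.toLinearMap) (fun x => ⟨e.symm (0, x), by simp⟩)
  haveI : Module.Projective A (LinearMap.ker v) :=
    Module.Projective.of_split (LinearMap.ker v).subtype ((LinearMap.id - s ∘ₗ v).codRestrict _ (fun w => by simp [hs']))
      (LinearMap.ext fun x => by
        refine Subtype.ext ?_
        simp [show v x.1 = 0 from x.2])
  have h : Module.rankAtStalk (R := A) (LinearMap.ker v) = 0 := by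
    ext p
    haveI : Nontrivial A := p.nontrivial
    have h1 := congrFun (Module.rankAtStalk_eq_of_equiv e) p
    rw [Module.rankAtStalk_prod, Pi.add_apply, hP, Module.rankAtStalk_eq_finrank_of_free] at h1
    simp only [Pi.natCast_apply, Module.finrank_fin_fun, Nat.cast_id] at h1
    simpa using h1
  haveI := (Module.rankAtStalk_eq_zero_iff_subsingleton).1 h
  exact LinearMap.ker_eq_bot.1 (Submodule.eq_bot_of_subsingleton)

/-- Coordinates normalised at `I`. -/
def Normal (I : Fin k → Fin n) (c : Fin n → Fin k → A) : Prop := ∀ a, c (I a) = Pi.single a 1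

/-- The quotient map with given coordinates. -/
noncomputable def piMap (c : Fin n → Fin k → A) : A ⊗[R] (Fin n → R) →ₗ[A] (Fin k → A) :=
  (stdBasis R n A).constr A c

theorem piMap_stdGen (c : Fin n → Fin k → A) (j : Fin n) : piMap (R := R) c (stdGen R A j) = c j := by
  rw [← stdBasis_apply]
  exact (stdBasis R n A).constr_basis A c j

theorem piMap_surjective {I : Fin k → Fin n} {c : Fin n → Fin k → A} (hc : Normal I c) :
    Function.Surjective (piMap (R := R) c) := fun w =>
  ⟨∑ a, w a • stdGen R A (I a), by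
    simp only [map_sum, map_smul, piMap_stdGen, hc _]
    exact (pi_eq_sum_univ' w).symm⟩

/-- The point of the Grassmannian with given coordinates. -/
noncomputable def ofCoord {I : Fin k → Fin n} {c : Fin n → Fin k → A} (hc : Normal I c) :
    Grassmannian A (A ⊗[R] (Fin n → R)) k where
  toSubmodule := LinearMap.ker (piMap c)
  finite_quotient := Module.Finite.equiv ((piMap c).quotKerEquivOfSurjective (piMap_surjective hc)).symm
  projective_quotient := Module.Projective.of_equiv ((piMap c).quotKerEquivOfSurjective (piMap_surjective hc)).symm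
  rankAtStalk_eq p := by
    haveI : Nontrivial A := p.nontrivial
    rw [Module.rankAtStalk_eq_of_equiv ((piMap c).quotKerEquivOfSurjective (piMap_surjective hc)),
      Module.rankAtStalk_eq_finrank_of_free]
    simp

theorem hasCoord_ofCoord {I : Fin k → Fin n} {c : Fin n → Fin k → A} (hc : Normal I c) :
    HasCoord (ofCoord (R := R) hc).toSubmodule I c := fun j => by
  show piMap c (stdGen R A j - ∑ a, c j a • stdGen R A (I a)) = 0
  simp only [map_sub, map_sum, map_smul, piMap_stdGen, hc _]
  rw [sub_eq_zero]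
  exact pi_eq_sum_univ' (c j)

variable {N : Grassmannian A (A ⊗[R] (Fin n → R)) k} {I : Fin k → Fin n} {c : Fin n → Fin k → A}

theorem HasCoord.bijective (h : HasCoord N.toSubmodule I c) : Function.Bijective (vMap N.toSubmodule I) :=
  have hs : InC N.toSubmodule I := (inC_iff _ _).2 ⟨c, h⟩
  ⟨injective_of_surjective_rank N.rankAtStalk_eq _ hs, hs⟩

theorem HasCoord.normal (h : HasCoord N.toSubmodule I c) : Normal I c := fun a => by
  apply h.bijective.1
  rw [← (hasCoord_iff _ _ _).1 h (I a), vMap, Fintype.linearCombination_apply_single, one_smul]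

theorem HasCoord.unique (h : HasCoord N.toSubmodule I c) {c' : Fin n → Fin k → A} (h' : HasCoord N.toSubmodule I c') :
    c = c' :=
  funext fun j => h.bijective.1 (((hasCoord_iff _ _ _).1 h j).symm.trans ((hasCoord_iff _ _ _).1 h' j))

theorem HasCoord.eq_ofCoord (h : HasCoord N.toSubmodule I c) (hc : Normal I c) : N = ofCoord hc := by
  have he : N.toSubmodule.mkQ = vMap N.toSubmodule I ∘ₗ piMap c := (stdBasis R n A).ext fun j => by
    rw [stdBasis_apply, LinearMap.comp_apply, piMap_stdGen]
    exact (hasCoord_iff _ _ _).1 h j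
  refine Grassmannian.ext ?_
  show N.toSubmodule = LinearMap.ker (piMap c)
  conv_lhs => rw [← Submodule.ker_mkQ N.toSubmodule, he]
  rw [LinearMap.ker_comp_of_ker_eq_bot _ (LinearMap.ker_eq_bot.2 h.bijective.1)]

theorem HasCoord.map (h : HasCoord N.toSubmodule I c) (f : A →ₐ[R] B) :
    HasCoord (Grassmannian.map f N).toSubmodule I (fun j a => f (c j a)) := fun j => by
  have h' := ext₁_mem_map f N (h j)
  simpa only [map_sub, map_sum, ext₁_smul, ext₁_stdGen] using h'

theorem map_ofCoord {I : Fin k → Fin n} {c : Fin n → Fin k → A} (hc : Normal I c) (f : A →ₐ[R] B)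
    (hc' : Normal I fun j a => f (c j a)) :
    Grassmannian.map f (ofCoord (R := R) hc) = ofCoord hc' :=
  ((hasCoord_ofCoord hc).map f).eq_ofCoord hc'

theorem inC_ofCoord_iff {I : Fin k → Fin n} {c : Fin n → Fin k → A} (hc : Normal I c) (J : Fin k → Fin n) :
    InC (ofCoord (R := R) hc).toSubmodule J ↔ IsUnit (Matrix.of fun a b => c (J b) a).det := by
  let e := (piMap (R := R) c).quotKerEquivOfSurjective (piMap_surjective hc)
  have he : ∀ w, e (vMap (ofCoord (R := R) hc).toSubmodule J w) = (Matrix.of fun a b => c (J b) a).mulVec w := by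
    intro w
    rw [vMap_apply, map_sum]
    ext a
    simp only [map_smul, Matrix.mulVec, dotProduct, Finset.sum_apply, Pi.smul_apply, smul_eq_mul, Matrix.of_apply]
    refine Finset.sum_congr rfl fun b _ => ?_
    rw [mul_comm]
    congr 1
    exact congrFun (piMap_stdGen c (J b)) a
  rw [← Matrix.isUnit_iff_isUnit_det, ← Matrix.mulVec_surjective_iff_isUnit, InC,
    ← Function.Surjective.of_comp_iff' e.bijective]
  rw [show (e ∘ vMap (ofCoord (R := R) hc).toSubmodule J) = (Matrix.of fun a b => c (J b) a).mulVec from funext he]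

/-- Indices outside a chart index. -/
abbrev outside (I : Fin k ↪ Fin n) : Type := {j : Fin n // j ∉ Set.range I}

variable (R) in
/-- The ring of a chart. -/
abbrev ChartPoly (I : Fin k ↪ Fin n) : Type u := MvPolynomial (Fin k × outside I) R

open Classical in
/-- The coordinates attached to values of the variables. -/
noncomputable def colOf (I : Fin k ↪ Fin n) (x : Fin k × outside I → A) (j : Fin n) : Fin k → A :=
  if h : j ∈ Set.range I then Pi.single h.choose 1 else fun a => x (a, ⟨j, h⟩)

theorem normal_colOf (I : Fin k ↪ Fin n) (x : Fin k × outside I → A) : Normal I (colOf I x) := fun a => by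
  have h : I a ∈ Set.range I := ⟨a, rfl⟩
  rw [colOf, dif_pos h, I.injective h.choose_spec]

theorem colOf_outside (I : Fin k ↪ Fin n) (x : Fin k × outside I → A) (p : Fin k × outside I) :
    colOf I x p.2.1 p.1 = x p := by
  rw [colOf, dif_neg p.2.2]

theorem colOf_of_normal (I : Fin k ↪ Fin n) {c : Fin n → Fin k → A} (hc : Normal I c) :
    colOf I (fun p => c p.2.1 p.1) = c := by
  funext j
  rw [colOf]
  split
  · next h => rw [← hc, h.choose_spec]
  · rfl

theorem colOf_map (I : Fin k ↪ Fin n) (x : Fin k × outside I → A) (f : A →ₐ[R] B) :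
    (fun j a => f (colOf I x j a)) = colOf I (fun p => f (x p)) := by
  funext j a
  rw [colOf, colOf]
  split
  · next h => rcases eq_or_ne a h.choose with rfl | hne <;> simp [*]
  · rfl

variable (R n k) in
/-- The universal point of a chart. -/
noncomputable def univPt (I : Fin k ↪ Fin n) :
    Grassmannian (ChartPoly R I) (ChartPoly R I ⊗[R] (Fin n → R)) k :=
  ofCoord (normal_colOf I MvPolynomial.X)

theorem map_univPt (I : Fin k ↪ Fin n) (f : ChartPoly R I →ₐ[R] A) :
    Grassmannian.map f (univPt R n k I) = ofCoord (normal_colOf I fun p => f (MvPolynomial.X p)) := by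
  have h := (hasCoord_ofCoord (R := R) (normal_colOf I (MvPolynomial.X (R := R)))).map f
  rw [colOf_map] at h
  exact h.eq_ofCoord _

theorem exists_map_univPt (I : Fin k ↪ Fin n) (h : InC N.toSubmodule I) :
    ∃ f : ChartPoly R I →ₐ[R] A, Grassmannian.map f (univPt R n k I) = N := by
  obtain ⟨c, hc⟩ := (inC_iff _ _).1 h
  refine ⟨MvPolynomial.aeval fun p => c p.2.1 p.1, ?_⟩
  rw [map_univPt, hc.eq_ofCoord hc.normal]
  congr 1
  simp only [MvPolynomial.aeval_X]
  exact colOf_of_normal I hc.normal

theorem inC_map_univPt (I : Fin k ↪ Fin n) (f : ChartPoly R I →ₐ[R] A) :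
    InC (Grassmannian.map f (univPt R n k I)).toSubmodule I := by
  rw [map_univPt]
  exact (inC_iff _ _).2 ⟨_, hasCoord_ofCoord _⟩

theorem span_fiber_gen (N : Submodule A (A ⊗[R] (Fin n → R))) (κ : Type u) [CommRing κ] [Algebra A κ] :
    Submodule.span κ (Set.range fun j => (1 : κ) ⊗ₜ[A] N.mkQ (stdGen R A j)) = ⊤ := by
  rw [eq_top_iff]
  intro z _
  induction z using TensorProduct.induction_on with
  | zero => exact zero_mem _
  | add x y hx hy => exact add_mem (hx trivial) (hy trivial)
  | tmul t q =>
    obtain ⟨x, rfl⟩ := N.mkQ_surjective q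
    rw [← (stdBasis R n A).sum_repr x, map_sum, TensorProduct.tmul_sum]
    refine Submodule.sum_mem _ fun j _ => ?_
    rw [map_smul, stdBasis_apply, ← TensorProduct.smul_tmul]
    have h : ((stdBasis R n A).repr x j • t) ⊗ₜ[A] N.mkQ (stdGen R A j) =
        ((stdBasis R n A).repr x j • t) • ((1 : κ) ⊗ₜ[A] N.mkQ (stdGen R A j)) := by
      rw [TensorProduct.smul_tmul', smul_eq_mul, mul_one]
    rw [h]
    exact Submodule.smul_mem _ _ (Submodule.subset_span ⟨j, rfl⟩)

theorem subsingleton_coker (N : Submodule A (A ⊗[R] (Fin n → R))) (κ : Type u) [CommRing κ] [Algebra A κ]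
    (I : Fin k → Fin n) (hI : Submodule.span κ (Set.range fun a => (1 : κ) ⊗ₜ[A] N.mkQ (stdGen R A (I a))) = ⊤) :
    Subsingleton (κ ⊗[A] (((A ⊗[R] (Fin n → R)) ⧸ N) ⧸ LinearMap.range (vMap N I))) := by
  refine subsingleton_of_forall_eq 0 fun z => ?_
  obtain ⟨y, rfl⟩ := LinearMap.baseChange_surjective κ (LinearMap.range (vMap N I)).mkQ_surjective z
  have hy := hI.ge (show y ∈ (⊤ : Submodule κ _) from trivial)
  induction hy using Submodule.span_induction with
  | zero => simp
  | add x y _ _ hx hy => rw [map_add, hx, hy, add_zero]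
  | smul t x _ hx => rw [map_smul, hx, smul_zero]
  | mem x hx =>
    obtain ⟨a, rfl⟩ := hx
    rw [LinearMap.baseChange_tmul]
    refine (congrArg (TensorProduct.tmul A 1) ?_).trans (TensorProduct.tmul_zero _ _)
    refine (Submodule.Quotient.mk_eq_zero _).2 ⟨Pi.single a 1, ?_⟩
    rw [vMap, Fintype.linearCombination_apply_single, one_smul]
    rfl

theorem exists_inC (N : Grassmannian A (A ⊗[R] (Fin n → R)) k) (p : Ideal A) [p.IsPrime] :
    ∃ (I : Fin k ↪ Fin n) (r : A), r ∉ p ∧
      InC (Grassmannian.map (IsScalarTower.toAlgHom R A (Localization.Away r)) N).toSubmodule I := by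
  classical
  let Q := (A ⊗[R] (Fin n → R)) ⧸ N.toSubmodule
  let κ := p.ResidueField
  let g : Fin n → κ ⊗[A] Q := fun j => 1 ⊗ₜ N.toSubmodule.mkQ (stdGen R A j)
  have hspan : Submodule.span κ (Set.range g) = ⊤ := span_fiber_gen N.toSubmodule κ
  have hrk : Module.finrank κ (κ ⊗[A] Q) = k :=
    ((Module.rankAtStalk_eq (⟨p, inferInstance⟩ : PrimeSpectrum A)).symm).trans (N.rankAtStalk_eq _)
  obtain ⟨f, hf, hfs, hfi⟩ := Submodule.exists_fun_fin_finrank_span_eq κ (Set.range g)
  have hd : Module.finrank κ (Submodule.span κ (Set.range g)) = k := by rw [hspan, finrank_top, hrk]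
  choose I₀ hI₀ using hf
  let I : Fin k ↪ Fin n := ⟨fun a => I₀ (Fin.cast hd.symm a), fun a b h => by
    have := hfi.injective (show f (Fin.cast hd.symm a) = f (Fin.cast hd.symm b) by rw [← hI₀, ← hI₀]; exact congrArg g h)
    exact Fin.cast_injective _ this⟩
  let T := Q ⧸ LinearMap.range (vMap N.toSubmodule I)
  have hT : Subsingleton (κ ⊗[A] T) := by
    refine subsingleton_coker N.toSubmodule κ I (top_le_iff.1 (hspan.ge.trans (hfs.ge.trans ?_)))
    refine Submodule.span_mono ?_
    rintro _ ⟨i, rfl⟩
    exact ⟨Fin.cast hd i, by rw [← hI₀]; rfl⟩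
  have hns : (⟨p, inferInstance⟩ : PrimeSpectrum A) ∉ Module.support A T := fun h =>
    not_nontrivial_iff_subsingleton.2 hT ((Module.mem_support_iff_nontrivial_residueField_tensorProduct (⟨p, inferInstance⟩ : PrimeSpectrum A)).1 h)
  rw [Module.mem_support_iff_of_finite, SetLike.not_le_iff_exists] at hns
  obtain ⟨r, hr, hrp⟩ := hns
  refine ⟨I, r, hrp, (inC_iff _ _).2 ?_⟩
  -- coordinates after inverting r
  have hc : ∀ j, ∃ c : Fin k → A, r • stdGen R A j - ∑ a, c a • stdGen R A (I a) ∈ N.toSubmodule := by
    intro j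
    obtain ⟨c, hc⟩ : r • (Submodule.Quotient.mk (stdGen R A j) : Q) ∈ LinearMap.range (vMap N.toSubmodule I) :=
      (Submodule.Quotient.mk_eq_zero (LinearMap.range (vMap N.toSubmodule I))).1 (by
        rw [Submodule.Quotient.mk_smul]
        exact Module.mem_annihilator.1 hr _)
    refine ⟨c, ?_⟩
    rw [← Submodule.Quotient.mk_eq_zero, Submodule.Quotient.mk_sub, sub_eq_zero, Submodule.Quotient.mk_smul, ← hc,
      vMap_apply, ← Submodule.mkQ_apply, map_sum]
    rfl
  choose c hc using hc
  have hu : IsUnit (algebraMap A (Localization.Away r) r) := IsLocalization.Away.algebraMap_isUnit r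
  refine ⟨fun j a => (↑hu.unit⁻¹ : Localization.Away r) * algebraMap A _ (c j a), fun j => ?_⟩
  have h := ext₁_mem_map (IsScalarTower.toAlgHom R A (Localization.Away r)) N (hc j)
  simp only [map_sub, map_sum, ext₁_smul, ext₁_stdGen] at h
  have h' := Submodule.smul_mem _ (↑hu.unit⁻¹ : Localization.Away r) h
  simp only [smul_sub, Finset.smul_sum, smul_smul] at h'
  rwa [show (↑hu.unit⁻¹ : Localization.Away r) * (IsScalarTower.toAlgHom R A (Localization.Away r)) r = 1 from
    hu.val_inv_mul, one_smul] at h'

variable (R n k)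

/-- The standard atlas of the Grassmannian of a free module. -/
noncomputable def freeAtlas : Atlas (Grassmannian.functor (R := R) (M := Fin n → R) k) where
  J := ULift.{u} (Fin k ↪ Fin n)
  C I := CommAlgCat.of R (ChartPoly R I.down)
  u I := univPt R n k I.down
  d I J := (Matrix.of fun a b => colOf I.down (MvPolynomial.X (R := R)) (J.down b) a).det
  inj I A φ ψ h := by
    refine CommAlgCat.hom_ext (MvPolynomial.algHom_ext fun p => ?_)
    have h1 : HasCoord (Grassmannian.map φ.hom (univPt R n k I.down)).toSubmodule I.down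
        (colOf I.down fun p => φ.hom (MvPolynomial.X p)) := by rw [map_univPt]; exact hasCoord_ofCoord _
    have h2 : HasCoord (Grassmannian.map ψ.hom (univPt R n k I.down)).toSubmodule I.down
        (colOf I.down fun p => ψ.hom (MvPolynomial.X p)) := by rw [map_univPt]; exact hasCoord_ofCoord _
    have h' : Grassmannian.map φ.hom (univPt R n k I.down) = Grassmannian.map ψ.hom (univPt R n k I.down) := h
    rw [← h'] at h2
    exact (colOf_outside _ (fun p => φ.hom (MvPolynomial.X p)) p).symm.trans
      ((congrFun (congrFun (h1.unique h2) p.2.1) p.1).trans (colOf_outside _ (fun p => ψ.hom (MvPolynomial.X p)) p))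
  chart I J A φ := by
    show IsUnit (φ.hom _) ↔ ∃ ψ : CommAlgCat.of R (ChartPoly R J.down) ⟶ A,
      Grassmannian.map ψ.hom (univPt R n k J.down) = Grassmannian.map φ.hom (univPt R n k I.down)
    rw [AlgHom.map_det]
    have hM : φ.hom.mapMatrix (Matrix.of fun a b => colOf I.down (MvPolynomial.X (R := R)) (J.down b) a) =
        Matrix.of fun a b => colOf I.down (fun p => φ.hom (MvPolynomial.X p)) (J.down b) a := by
      ext a b
      exact congrFun (congrFun (colOf_map I.down MvPolynomial.X φ.hom) (J.down b)) a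
    rw [hM, ← inC_ofCoord_iff (R := R) (normal_colOf I.down _), map_univPt]
    constructor
    · intro h
      obtain ⟨f, hf⟩ := exists_map_univPt J.down h
      exact ⟨algHomMk f, hf⟩
    · rintro ⟨ψ, hψ⟩
      rw [← hψ]
      exact inC_map_univPt J.down ψ.hom
  cover A x := by
    by_contra hne
    obtain ⟨p, hp, hle⟩ := Ideal.exists_le_maximal _ hne
    obtain ⟨I, r, hr, hI⟩ := exists_inC (R := R) (A := A) x p
    obtain ⟨f, hf⟩ := exists_map_univPt I hI
    exact hr (hle (Ideal.subset_span ⟨⟨I⟩, algHomMk f, hf⟩))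

end Groth.Agent.GrassRepLib
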