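import Groth.Agent.FlagLib.Step
import Groth.Agent.FittStratum.Main
import Groth.Agent.S4812

/-! The morphism of Grassmannians of an epimorphism of quasi-coherent modules is a closed immersion. -/

set_option autoImplicit false
set_option backward.isDefEq.respectTransparency false
set_option linter.style.haveILetI false

universe u

open CategoryTheory CategoryTheory.Limits AlgebraicGeometry Grass
open Groth.Agent.FlagLib Groth.Agent.PullbackMod

noncomputable section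

namespace Groth.Agent.GrassRepLib

variable {X T : Scheme.{u}}

theorem isIso_π_map_iff (h : T ⟶ X) {A B : X.Modules} (κ : A ⟶ B) :
    IsIso ((Scheme.Modules.pullback h).map (cokernel.π κ)) ↔ (Scheme.Modules.pullback h).map κ = 0 := by
  let P := Scheme.Modules.pullback h
  haveI : PreservesColimitsOfSize.{u, u} P :=
    (Scheme.Modules.pullbackPushforwardAdjunction h).leftAdjoint_preservesColimits
  haveI : P.IsLeftAdjoint := (Scheme.Modules.pullbackPushforwardAdjunction _).isLeftAdjoint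
  haveI : P.PreservesZeroMorphisms := inferInstance
  constructor
  · intro hiso
    rw [← cancel_mono (P.map (cokernel.π κ)), zero_comp, ← P.map_comp, cokernel.condition, P.map_zero]
  · intro h0
    have hl := isColimitOfHasCokernelOfPreservesColimit P κ
    obtain ⟨r, hr⟩ := CokernelCofork.IsColimit.desc' hl (𝟙 (P.obj B)) (by rw [h0, zero_comp])
    change P.map (cokernel.π κ) ≫ r = 𝟙 _ at hr
    haveI : Epi (P.map (cokernel.π κ)) := epi_pullback_map h _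
    refine ⟨r, hr, ?_⟩
    rw [← cancel_epi (P.map (cokernel.π κ)), reassoc_of% hr, Category.comp_id]

theorem isIso_of_epi_rank {M N : X.Modules} (φ : M ⟶ N) [Epi φ] {e : ℕ}
    (hM : FlatMod.IsFinLocFreeOfRank e M) (hN : FlatMod.IsFinLocFreeOfRank e N) : IsIso φ := by
  have hM' : FlatMod.IsFinLocFree M := fun x => ⟨(hM x).choose, e, (hM x).choose_spec⟩
  have hN' : FlatMod.IsFinLocFree N := fun x => ⟨(hN x).choose, e, (hN x).choose_spec⟩
  obtain ⟨hMq, hMp⟩ := isQCoh_and_isFP_of_isFinLocFree M hM'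
  obtain ⟨hNq, hNp⟩ := isQCoh_and_isFP_of_isFinLocFree N hN'
  haveI := hMq
  haveI := hNq
  refine (isIso_iff_stalk φ).2 fun x => ?_
  obtain ⟨a⟩ := (isFinLocFreeOfRank_iff_freeAt M hMp e).1 hM x
  obtain ⟨b⟩ := (isFinLocFreeOfRank_iff_freeAt N hNp e).1 hN x
  have hs := (epi_iff_stalk φ).1 inferInstance x
  let ψ : (Fin e → X.presheaf.stalk x) →ₗ[X.presheaf.stalk x] (Fin e → X.presheaf.stalk x) :=
    b.toLinearMap ∘ₗ stalkLin φ x ∘ₗ a.symm.toLinearMap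
  have hψ : Function.Surjective ψ := b.surjective.comp (hs.comp a.symm.surjective)
  refine ⟨fun z w hzw => a.injective (OrzechProperty.injective_of_surjective_endomorphism ψ hψ ?_), hs⟩
  show b (stalkLin φ x (a.symm (a z))) = b (stalkLin φ x (a.symm (a w)))
  rw [LinearEquiv.symm_apply_apply, LinearEquiv.symm_apply_apply, hzw]

/-- A closed subscheme over which a map to a locally free module vanishes. -/
theorem exists_vanishing {K Q : X.Modules} (hK : Coh.IsQCoh K) {e : ℕ} (hQ : FlatMod.IsFinLocFreeOfRank e Q)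
    (κ : K ⟶ Q) : ∃ (Z : Scheme.{u}) (i : Z ⟶ X), IsClosedImmersion i ∧ ∀ (T : Scheme.{u}) (f : T ⟶ X),
      (∃ g : T ⟶ Z, g ≫ i = f) ↔ (Scheme.Modules.pullback f).map κ = 0 := by
  have hQ' : FlatMod.IsFinLocFree Q := fun x => ⟨(hQ x).choose, e, (hQ x).choose_spec⟩
  obtain ⟨hQq, hQp⟩ := isQCoh_and_isFP_of_isFinLocFree Q hQ'
  haveI := hQq
  let C := cokernel κ
  haveI hCq : Coh.IsQCoh C := (Groth.Agent.QCohLib.isQCoh_image κ hK hQq).2
  have hC : CohB1.IsFT C := S4812.isFT_of_epi (ExactConstrLib.isFT_of_isFP hQp) (cokernel.π κ)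
  have hsupp : ∀ x : X, x ∉ (Fitt.sheafIdeal C e).support := fun x => by
    rw [FittSheafLib.notMem_support_iff C hC e x]
    obtain ⟨a⟩ := (isFinLocFreeOfRank_iff_freeAt Q hQp e).1 hQ x
    let p := stalkLin (cokernel.π κ) x ∘ₗ a.symm.toLinearMap
    have hp : Function.Surjective p :=
      ((epi_iff_stalk (cokernel.π κ)).1 inferInstance x).comp a.symm.surjective
    refine ⟨fun i => p (Pi.single i 1), ?_⟩
    rw [← LinearMap.range_eq_top.2 hp, LinearMap.range_eq_map, ← (Pi.basisFun (X.presheaf.stalk x) (Fin e)).span_eq,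
      Submodule.map_span, ← Set.range_comp]
    congr 1
    simp [Function.comp_def]
  classical
  let J : X.IdealSheafData := if e = 0 then ⊥ else Fitt.sheafIdeal C (e - 1)
  refine ⟨J.subscheme, J.subschemeι, inferInstance, fun T f => ?_⟩
  rw [← isIso_π_map_iff]
  have hiff : IsIso ((Scheme.Modules.pullback f).map (cokernel.π κ)) ↔
      FlatMod.IsFinLocFreeOfRank e ((Scheme.Modules.pullback f).obj C) := by
    haveI : Epi ((Scheme.Modules.pullback f).map (cokernel.π κ)) := epi_pullback_map f _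
    refine ⟨fun hiso => ?_, fun h => isIso_of_epi_rank _ (rank_pullback f Q hQ) h⟩
    intro t
    obtain ⟨U, ht, ⟨i⟩⟩ := rank_pullback f Q hQ t
    exact ⟨U, ht, ⟨(Scheme.Modules.restrictFunctor U.ι).mapIso
      (asIso ((Scheme.Modules.pullback f).map (cokernel.π κ))).symm ≪≫ i⟩⟩
  rw [hiff, FittStratum.isFinLocFreeOfRank_iff C hC f e]
  have hJ : (e ≠ 0 → Fitt.sheafIdeal C (e - 1) ≤ f.ker) ↔ J ≤ f.ker := by
    by_cases hr : e = 0
    · simp [J, hr]
    · simp [J, hr]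
  rw [hJ, and_iff_right (by rintro _ ⟨t, rfl⟩; exact hsupp (f t))]
  refine ⟨?_, fun h => ⟨IsClosedImmersion.lift J.subschemeι f (by rwa [J.ker_subschemeι]), IsClosedImmersion.lift_fac _ _ _⟩⟩
  rintro ⟨g, rfl⟩
  exact J.ker_subschemeι.symm.le.trans (Scheme.Hom.le_ker_comp _ _)

section mapOfEpi

variable {G₁ G₂ : Scheme.{u}} {π₁ : G₁ ⟶ X} {π₂ : G₂ ⟶ X} {E₁ E₂ : X.Modules} {e : ℕ}
  {Q₁ : G₁.Modules} {Q₂ : G₂.Modules} {q₁ : (Scheme.Modules.pullback π₁).obj E₁ ⟶ Q₁}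
  {q₂ : (Scheme.Modules.pullback π₂).obj E₂ ⟶ Q₂}
  (hG₁ : IsGrass π₁ E₁ e Q₁ q₁) (hG₂ : IsGrass π₂ E₂ e Q₂ q₂) (v : E₁ ⟶ E₂) [Epi v]

theorem qb_map {G : Scheme.{u}} {π : G ⟶ X} {Q : G.Modules} {E E' : X.Modules} (w : E ⟶ E')
    (q : (Scheme.Modules.pullback π).obj E' ⟶ Q) {h : T ⟶ G} {g : T ⟶ X} (hg : h ≫ π = g) :
    qb ((Scheme.Modules.pullback π).map w ≫ q) hg = (Scheme.Modules.pullback g).map w ≫ qb q hg := by
  have h1 := (Scheme.Modules.pullbackCongr hg).inv.naturality w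
  have h2 := (Scheme.Modules.pullbackComp h π).inv.naturality w
  simp only [qb, quotBC, Functor.map_comp]
  rw [reassoc_of% h1]
  congr 1
  erw [reassoc_of% h2]

variable {v} in
include hG₁ hG₂ in
theorem factor_of_comp {h : T ⟶ G₁} {k : T ⟶ G₂} (hk : k ≫ hG₁.mapOfEpi hG₂ v = h) {g : T ⟶ X}
    (hg : h ≫ π₁ = g) (hg₂ : k ≫ π₂ = g) : ∃ ε : (Scheme.Modules.pullback h).obj Q₁ ≅ (Scheme.Modules.pullback k).obj Q₂,
      qb q₁ hg ≫ ε.hom = (Scheme.Modules.pullback g).map v ≫ qb q₂ hg₂ := by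
  have hepi : Epi ((Scheme.Modules.pullback π₂).map v ≫ q₂) :=
    haveI := hG₂.epi; haveI := epi_pullback_map π₂ v; epi_comp _ _
  let m := hG₁.mapOfEpi hG₂ v
  let em : (Scheme.Modules.pullback m).obj Q₁ ≅ Q₂ := hG₁.liftIso π₂ Q₂ hG₂.rank _ hepi
  have hem : qb q₁ (hG₁.mapOfEpi_comp hG₂ v) ≫ em.hom = (Scheme.Modules.pullback π₂).map v ≫ q₂ :=
    hG₁.quotBC_liftIso π₂ Q₂ hG₂.rank _ hepi
  refine ⟨((Scheme.Modules.pullbackCongr hk).app Q₁).symm ≪≫ ((Scheme.Modules.pullbackComp k m).app Q₁).symm ≪≫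
    (Scheme.Modules.pullback k).mapIso em, ?_⟩
  rw [← qb_map v q₂ hg₂, ← hem, qb_qb q₁ (hG₁.mapOfEpi_comp hG₂ v) hk hg₂ hg]
  simp [qb, quotBC, m]

include hG₁ hG₂ in
theorem factors_iff (h : T ⟶ G₁) :
    (∃ k : T ⟶ G₂, k ≫ hG₁.mapOfEpi hG₂ v = h) ↔
      (Scheme.Modules.pullback h).map ((Scheme.Modules.pullback π₁).map (kernel.ι v) ≫ q₁) = 0 := by
  let g := h ≫ π₁
  have hz : (Scheme.Modules.pullback h).map ((Scheme.Modules.pullback π₁).map (kernel.ι v) ≫ q₁) = 0 ↔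
      (Scheme.Modules.pullback g).map (kernel.ι v) ≫ qb q₁ (rfl : h ≫ π₁ = g) = 0 := by
    rw [← qb_map, qb_rfl, ← cancel_epi ((Scheme.Modules.pullbackComp h π₁).inv.app (kernel v)), comp_zero]
  rw [hz]
  let P := Scheme.Modules.pullback g
  haveI : PreservesColimitsOfSize.{u, u} P :=
    (Scheme.Modules.pullbackPushforwardAdjunction g).leftAdjoint_preservesColimits
  haveI : P.IsLeftAdjoint := (Scheme.Modules.pullbackPushforwardAdjunction _).isLeftAdjoint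
  haveI : P.PreservesZeroMorphisms := inferInstance
  have hcond : P.map (kernel.ι v) ≫ P.map v = 0 := by rw [← P.map_comp, kernel.condition, P.map_zero]
  constructor
  · rintro ⟨k, hk⟩
    have hg₂ : k ≫ π₂ = g := by
      show k ≫ π₂ = h ≫ π₁
      rw [← hk, Category.assoc, hG₁.mapOfEpi_comp hG₂ v]
    obtain ⟨ε, hε⟩ := factor_of_comp hG₁ hG₂ hk rfl hg₂
    rw [← cancel_mono ε.hom, Category.assoc, hε, zero_comp, reassoc_of% hcond, zero_comp]
  · intro h0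
    obtain ⟨s, hs⟩ : ∃ s : P.obj E₂ ⟶ (Scheme.Modules.pullback h).obj Q₁, P.map v ≫ s = qb q₁ rfl := by
      have hv : IsColimit (CokernelCofork.ofπ v (kernel.condition v)) :=
        Abelian.epiIsCokernelOfKernel (limit.cone _) (limit.isLimit _)
      obtain ⟨s, hs⟩ := CokernelCofork.IsColimit.desc' (isColimitCoforkMapOfIsColimit' P (kernel.condition v) hv) _ h0
      exact ⟨s, hs⟩
    haveI : Epi s := by
      haveI := hG₁.epi
      haveI : Epi (P.map v ≫ s) := hs ▸ epi_qb q₁ rfl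
      exact epi_of_epi (P.map v) s
    obtain ⟨k, ⟨hk, e₂, he₂⟩, -⟩ := hG₂.univ T g _ (rank_pullback h Q₁ hG₁.rank) s inferInstance
    rw [← qb_eq] at he₂
    have hkg : (k ≫ hG₁.mapOfEpi hG₂ v) ≫ π₁ = g := by rw [Category.assoc, hG₁.mapOfEpi_comp hG₂ v, hk]
    obtain ⟨ε, hε⟩ := factor_of_comp hG₁ hG₂ (rfl : k ≫ _ = k ≫ _) hkg hk
    refine ⟨k, (hG₁.univ T g _ (rank_pullback h Q₁ hG₁.rank) (qb q₁ rfl) (haveI := hG₁.epi; epi_qb q₁ rfl)).unique
      ⟨hkg, ε ≪≫ e₂, ?_⟩ ⟨rfl, Iso.refl _, Category.comp_id _⟩⟩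
    rw [← qb_eq, Iso.trans_hom, reassoc_of% hε, he₂, hs]

include hG₁ hG₂ in
theorem mono_mapOfEpi : Mono (hG₁.mapOfEpi hG₂ v) := by
  refine ⟨fun {T} k k' hkk => ?_⟩
  let g := k ≫ π₂
  have hg' : k' ≫ π₂ = g := by
    show k' ≫ π₂ = k ≫ π₂
    rw [← hG₁.mapOfEpi_comp hG₂ v, ← reassoc_of% hkk]
  have hk₁ : (k ≫ hG₁.mapOfEpi hG₂ v) ≫ π₁ = g := by rw [Category.assoc, hG₁.mapOfEpi_comp hG₂ v]
  obtain ⟨ε, hε⟩ := factor_of_comp hG₁ hG₂ (rfl : k ≫ _ = k ≫ _) hk₁ rfl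
  obtain ⟨ε', hε'⟩ := factor_of_comp hG₁ hG₂ hkk.symm hk₁ hg'
  haveI := epi_pullback_map g v
  refine (hG₂.univ T g _ (rank_pullback k Q₂ hG₂.rank) (qb q₂ (rfl : k ≫ π₂ = g)) (haveI := hG₂.epi; epi_qb q₂ _)).unique
    ⟨rfl, Iso.refl _, Category.comp_id _⟩ ⟨hg', ε'.symm ≪≫ ε, ?_⟩
  rw [← qb_eq, ← cancel_epi ((Scheme.Modules.pullback g).map v), ← reassoc_of% hε', Iso.trans_hom, Iso.symm_hom,
    Iso.hom_inv_id_assoc, hε]

include hG₁ hG₂ in
theorem isClosedImmersion_mapOfEpi (hE₁ : Coh.IsQCoh E₁) (hE₂ : Coh.IsQCoh E₂) :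
    IsClosedImmersion (hG₁.mapOfEpi hG₂ v) := by
  haveI hK : Coh.IsQCoh (kernel v) := (Groth.Agent.QCohLib.isQCoh_image v hE₁ hE₂).1
  haveI := isQCoh_pullback π₁ (kernel v)
  obtain ⟨Z, i, hi, hZ⟩ := exists_vanishing ‹Coh.IsQCoh ((Scheme.Modules.pullback π₁).obj (kernel v))› hG₁.rank
    ((Scheme.Modules.pullback π₁).map (kernel.ι v) ≫ q₁)
  haveI := hi
  haveI := mono_mapOfEpi hG₁ hG₂ v
  let m := hG₁.mapOfEpi hG₂ v
  obtain ⟨a, ha⟩ := (hZ G₂ m).2 ((factors_iff hG₁ hG₂ v m).1 ⟨𝟙 _, Category.id_comp _⟩)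
  obtain ⟨b, hb⟩ := (factors_iff hG₁ hG₂ v i).2 ((hZ Z i).1 ⟨𝟙 _, Category.id_comp _⟩)
  haveI : IsIso a := ⟨⟨b, by rw [← cancel_mono m, Category.assoc, hb, ha, Category.id_comp],
    by rw [← cancel_mono i, Category.assoc, ha, hb, Category.id_comp]⟩⟩
  rw [show hG₁.mapOfEpi hG₂ v = a ≫ i from ha.symm]
  infer_instance

end mapOfEpi

end Groth.Agent.GrassRepLib
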