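import Mathlib
import Groth.Agent.GrassRepLib.Free
import Groth.Agent.HilbDescLib.GrassComap

/-! Representability of the Grassmannian. -/

set_option autoImplicit false
set_option backward.isDefEq.respectTransparency false
set_option backward.isDefEq.respectTransparency.types false
set_option linter.style.haveILetI false

universe u

open AlgebraicGeometry CategoryTheory TensorProduct Module

namespace Groth.Agent.GrassRepLib

open HilbDescLib

variable {R : Type u} [CommRing R]

/-- Representing data on affine points. -/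
def Represents (F : CommAlgCat.{u} R ⥤ Type u) (X : Over (Spec (CommRingCat.of R)))
    (e : ∀ A : CommAlgCat.{u} R, (test A ⟶ X) ≃ F.obj A) : Prop :=
  ∀ (A B : CommAlgCat.{u} R) (φ : A ⟶ B) (g : test A ⟶ X) (g' : test B ⟶ X),
    g'.left = Spec.map (CommRingCat.ofHom φ.hom.toRingHom) ≫ g.left → e B g' = F.map φ (e A g)

theorem exists_iso_of_represents {F : CommAlgCat.{u} R ⥤ Type u} {X X' : Over (Spec (CommRingCat.of R))}
    {e : ∀ A : CommAlgCat.{u} R, (test A ⟶ X) ≃ F.obj A} (he : Represents F X e)
    {e' : ∀ A : CommAlgCat.{u} R, (test A ⟶ X') ≃ F.obj A} (he' : Represents F X' e') :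
    ∃ φ : X ≅ X', ∀ (A : CommAlgCat.{u} R) (g : test A ⟶ X), e' A (g ≫ φ.hom) = e A g := by
  obtain ⟨c, hc⟩ := exists_hom_of_points (fun A g => (e' A).symm (e A g)) (fun A B h g => (e' B).injective (by
    rw [Equiv.apply_symm_apply, points_natural e he, points_natural e' he', Equiv.apply_symm_apply]))
  haveI : IsIso c := isIso_of_points_bijective c fun A => by
    simp only [hc]
    exact ((e A).trans (e' A).symm).bijective
  exact ⟨asIso c, fun A g => by rw [asIso_hom, hc, Equiv.apply_symm_apply]⟩

variable (R) in
/-- The Grassmannian of a free module. -/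
noncomputable abbrev freeGrass (n k : ℕ) : Over (Spec (CommRingCat.of R)) := glued (freeAtlas R n k)

variable (R) in
/-- Its points. -/
noncomputable abbrev freeEquiv (n k : ℕ) (A : CommAlgCat.{u} R) :
    (test A ⟶ freeGrass R n k) ≃ (Grassmannian.functor (R := R) (M := Fin n → R) k).obj A :=
  repEquiv (freeAtlas R n k) (isZarLocal_grass R (Fin n → R) k) A

theorem represents_free (n k : ℕ) :
    Represents (Grassmannian.functor (R := R) (M := Fin n → R) k) (freeGrass R n k) (freeEquiv R n k) :=
  repEquiv_natural (freeAtlas R n k) (isZarLocal_grass R (Fin n → R) k)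

theorem exists_represents (M : Type u) [AddCommGroup M] [Module R M] [Module.Finite R M] (k : ℕ) :
    ∃ (X : Over (Spec (CommRingCat.of R)))
      (e : ∀ A : CommAlgCat.{u} R, (test A ⟶ X) ≃ (Grassmannian.functor (R := R) (M := M) k).obj A),
      Represents (Grassmannian.functor (R := R) (M := M) k) X e := by
  obtain ⟨n, v, hv⟩ := Module.Finite.exists_fin' R M
  let e₁ := freeEquiv R n k
  have he₁ := represents_free (R := R) n k
  obtain ⟨Z, ι, hι, hZ⟩ := exists_closed e₁ he₁
    (fun A N => LinearMap.ker (v.baseChange A) ≤ N.toSubmodule) (fun A N => killIdeal v N)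
    (fun A C φ N => killIdeal_iff hv φ.hom N)
  let Z' : Over (Spec (CommRingCat.of R)) := Over.mk (ι ≫ (freeGrass R n k).hom)
  let j : Z' ⟶ freeGrass R n k := Over.homMk ι rfl
  haveI : Mono j := Over.mono_of_mono_left j
  have hk : ∀ (A : CommAlgCat.{u} R) (z : test A ⟶ Z'),
      LinearMap.ker (v.baseChange A) ≤ (e₁ A (z ≫ j)).toSubmodule := fun A z => (hZ A (z ≫ j)).1 ⟨z.left, rfl⟩
  have hbij : ∀ A : CommAlgCat.{u} R, Function.Bijective fun z : test A ⟶ Z' => grPush hv _ (hk A z) := by
    intro A
    refine ⟨fun z z' h => (cancel_mono j).1 ((e₁ A).injective ?_), fun N => ?_⟩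
    · have h' := congrArg (grComap hv) h
      rwa [grComap_grPush, grComap_grPush] at h'
    · obtain ⟨h, hh⟩ := (hZ A ((e₁ A).symm (grComap hv N))).2 (by
        rw [Equiv.apply_symm_apply]
        exact ker_le_grComap hv N)
      let z : test A ⟶ Z' := Over.homMk h (show h ≫ ι ≫ (freeGrass R n k).hom = _ by
        rw [reassoc_of% hh]
        exact Over.w ((e₁ A).symm (grComap hv N)))
      refine ⟨z, grComap_injective hv ?_⟩
      rw [grComap_grPush, show z ≫ j = (e₁ A).symm (grComap hv N) from Over.OverMorphism.ext hh, Equiv.apply_symm_apply]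
  refine ⟨Z', fun A => Equiv.ofBijective _ (hbij A), fun A B φ g g' hg => grComap_injective hv ?_⟩
  show grComap hv (grPush hv _ (hk B g')) = grComap hv (Grassmannian.map φ.hom (grPush hv _ (hk A g)))
  rw [← grComap_map, grComap_grPush, grComap_grPush]
  exact he₁ A B φ (g ≫ j) (g' ≫ j) (by simp only [Over.comp_left, hg, Category.assoc])

end Groth.Agent.GrassRepLib
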