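import Mathlib
import Groth.Agent.GrassRepLib.Main
import Groth.Agent.AmpleEmb.Immersion

/-! The Plücker embedding of the Grassmannian of a free module. -/

set_option autoImplicit false
set_option backward.isDefEq.respectTransparency false
set_option backward.isDefEq.respectTransparency.types false
set_option linter.style.haveILetI false
set_option maxHeartbeats 800000

universe u

open AlgebraicGeometry CategoryTheory CategoryTheory.Limits Opposite

namespace Groth.Agent.GrassRepLib

open HilbDescLib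

variable {R : Type u} [CommRing R]

section minors

variable {n k : ℕ} {A : Type u} [CommRing A] [Algebra R A]

/-- The minor of coordinates in the columns `J`. -/
noncomputable def minor (c : Fin n → Fin k → A) (J : Fin k → Fin n) : A := (Matrix.of fun a b => c (J b) a).det

theorem minor_self {I : Fin k → Fin n} {c : Fin n → Fin k → A} (hc : Normal I c) : minor c I = 1 := by
  classical
  rw [minor, show (Matrix.of fun a b => c (I b) a) = (1 : Matrix (Fin k) (Fin k) A) from ?_, Matrix.det_one]
  ext a b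
  simp [hc b, Matrix.one_apply, Pi.single_apply]

theorem minor_perm (c : Fin n → Fin k → A) (J : Fin k → Fin n) (σ : Equiv.Perm (Fin k)) :
    minor c (J ∘ σ) = (Equiv.Perm.sign σ : ℤ) • minor c J := by
  rw [minor, minor, show (Matrix.of fun a b => c ((J ∘ σ) b) a) = (Matrix.of fun a b => c (J b) a).submatrix id σ from rfl,
    Matrix.det_permute', zsmul_eq_mul]

theorem minor_trans {N : Module.Grassmannian A (TensorProduct R A (Fin n → R)) k} {I J : Fin k → Fin n}
    {c c' : Fin n → Fin k → A} (h : HasCoord N.toSubmodule I c) (h' : HasCoord N.toSubmodule J c')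
    (L : Fin k → Fin n) : minor c' L = minor c' I * minor c L := by
  have hc : ∀ x, c' x = ∑ a, c x a • c' (I a) := fun x => by
    apply h'.bijective.1
    rw [← (hasCoord_iff _ _ _).1 h' x, (hasCoord_iff _ _ _).1 h x, vMap_apply, map_sum]
    simp only [map_smul, ← (hasCoord_iff _ _ _).1 h' _]
  rw [minor, minor, minor, ← Matrix.det_mul]
  congr 1
  ext a b
  rw [Matrix.mul_apply, Matrix.of_apply, hc (L b), Finset.sum_apply]
  refine Finset.sum_congr rfl fun j _ => ?_
  rw [Pi.smul_apply, smul_eq_mul, mul_comm]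
  rfl

theorem minor_map {B : Type u} [CommRing B] [Algebra R B] (f : A →ₐ[R] B) (c : Fin n → Fin k → A) (J : Fin k → Fin n) :
    f (minor c J) = minor (fun x a => f (c x a)) J := by
  rw [minor, AlgHom.map_det]
  rfl

theorem variable_eq_minor (I : Fin k ↪ Fin n) (p : Fin k × outside I) :
    minor (colOf I (MvPolynomial.X (R := R))) (Function.update I p.1 p.2.1) = MvPolynomial.X p := by
  classical
  rw [minor, show (Matrix.of fun a b => colOf I (MvPolynomial.X (R := R)) (Function.update I p.1 p.2.1 b) a) =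
    (1 : Matrix (Fin k) (Fin k) _).updateCol p.1 (colOf I MvPolynomial.X p.2.1) from ?_]
  · rw [← Matrix.cramer_apply, Matrix.cramer_one]
    simp [colOf_outside]
  · ext a b
    rcases eq_or_ne b p.1 with rfl | hb
    · simp [Matrix.updateCol_apply]
    · simp [Matrix.updateCol_apply, hb, normal_colOf I MvPolynomial.X b, Matrix.one_apply, Pi.single_apply]

end minors

variable (R) (n q : ℕ)

/-- Sorted chart indices. -/
noncomputable def idxEquiv (hq : q ≤ n) : Fin (n.choose q - 1 + 1) ≃ {s : Finset (Fin n) // s.card = q} :=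
  (Fintype.equivFinOfCardEq (by
    rw [Fintype.card_finset_len, Fintype.card_fin, Nat.sub_add_cancel (Nat.choose_pos hq)])).symm

/-- The sorted chart index of a number. -/
noncomputable def idx (hq : q ≤ n) (a : Fin (n.choose q - 1 + 1)) : Fin q ↪ Fin n :=
  ((idxEquiv n q hq a).1.orderEmbOfFin (idxEquiv n q hq a).2).toEmbedding

variable {n q}

theorem exists_idx (hq : q ≤ n) (J : Fin q → Fin n) (hJ : Function.Injective J) :
    ∃ (a : Fin (n.choose q - 1 + 1)) (σ : Equiv.Perm (Fin q)), ⇑(idx n q hq a) = J ∘ σ := by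
  classical
  let s : Finset (Fin n) := Finset.univ.image J
  have hs : s.card = q := by rw [Finset.card_image_of_injective _ hJ, Finset.card_univ, Fintype.card_fin]
  let a := (idxEquiv n q hq).symm ⟨s, hs⟩
  have ha : (idxEquiv n q hq a).1 = s := by rw [Equiv.apply_symm_apply]
  have hmem : ∀ b, ∃ c, J c = idx n q hq a b := fun b => by
    have h : idx n q hq a b ∈ s := by
      have := Finset.orderEmbOfFin_mem _ (idxEquiv n q hq a).2 b
      exact ha.le this
    simpa [s] using h
  choose σ hσ using hmem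
  have hinj : Function.Injective σ := fun b b' h => (idx n q hq a).injective (by rw [← hσ, ← hσ, h])
  exact ⟨a, Equiv.ofBijective σ (Finite.injective_iff_bijective.1 hinj), funext fun b => (hσ b).symm⟩

variable (n q)

/-- The chart opens. -/
noncomputable abbrev chOpen (I : Fin q ↪ Fin n) : (freeGrass R n q).left.Opens :=
  (glι (freeAtlas R n q) ⟨I⟩).left ''ᵁ ⊤

variable {R n q}

theorem preimage_chOpen (I J : Fin q ↪ Fin n) :
    (glι (freeAtlas R n q) ⟨I⟩).left ⁻¹ᵁ chOpen R n q J = ov (freeAtlas R n q) ⟨I⟩ ⟨J⟩ := by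
  refine TopologicalSpace.Opens.ext (Set.ext fun x => ?_)
  constructor
  · rintro ⟨y, -, hy⟩
    obtain ⟨z, hz, -⟩ := ((glueData (freeAtlas R n q)).ι_eq_iff ⟨I⟩ ⟨J⟩ x y).1 hy.symm
    have hz' : (ov (freeAtlas R n q) ⟨I⟩ ⟨J⟩).ι z = x := hz
    rw [← hz']
    exact z.2
  · intro hx
    exact ⟨(tMap (freeAtlas R n q) ⟨I⟩ ⟨J⟩ ≫ ovInc (freeAtlas R n q) ⟨J⟩ ⟨I⟩).left ⟨x, hx⟩, trivial,
      congrArg (fun f : ovO (freeAtlas R n q) ⟨I⟩ ⟨J⟩ ⟶ glued (freeAtlas R n q) => f.left ⟨x, hx⟩) (tMap_glι (freeAtlas R n q) ⟨I⟩ ⟨J⟩)⟩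

variable (R) in
/-- The coordinate map of a chart. -/
noncomputable def chSec (I : Fin q ↪ Fin n) : ChartPoly R I →+* Γ((freeGrass R n q).left, chOpen R n q I) :=
  ((Scheme.ΓSpecIso (CommRingCat.of (ChartPoly R I))).inv ≫ ((glι (freeAtlas R n q) ⟨I⟩).left.appIso ⊤).inv).hom

theorem chSec_surjective (I : Fin q ↪ Fin n) : Function.Surjective (chSec R I) :=
  ((Scheme.ΓSpecIso (CommRingCat.of (ChartPoly R I))).symm ≪≫
    ((glι (freeAtlas R n q) ⟨I⟩).left.appIso ⊤).symm).commRingCatIsoToRingEquiv.surjective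

theorem appLE_chSec (I : Fin q ↪ Fin n) (x : ChartPoly R I) :
    (glι (freeAtlas R n q) ⟨I⟩).left.appLE (chOpen R n q I) ⊤
      (Scheme.Hom.preimage_image_eq _ _).ge (chSec R I x) =
    (Scheme.ΓSpecIso (CommRingCat.of (ChartPoly R I))).inv x := by
  show ((Scheme.ΓSpecIso (CommRingCat.of (ChartPoly R I))).inv ≫ ((glι (freeAtlas R n q) ⟨I⟩).left.appIso ⊤).inv ≫
    (glι (freeAtlas R n q) ⟨I⟩).left.appLE _ _ _).hom x = _
  rw [Scheme.Hom.appIso_inv_appLE]
  erw [(Spec (CommRingCat.of (ChartPoly R I))).presheaf.map_id]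
  rfl

/-- The minors as sections. -/
noncomputable def ratio (hq : q ≤ n) (i a : Fin (n.choose q - 1 + 1)) :
    Γ((freeGrass R n q).left, chOpen R n q (idx n q hq i)) :=
  chSec R (idx n q hq i) (minor (colOf (idx n q hq i) (MvPolynomial.X (R := R))) (idx n q hq a))

variable (R n q) in
/-- An open of the Grassmannian over the base. -/
noncomputable abbrev openO (W : (freeGrass R n q).left.Opens) : Over (Spec (CommRingCat.of R)) :=
  Over.mk (W.ι ≫ (freeGrass R n q).hom)

variable (R) in
/-- The lift of an open inside a chart to the chart. -/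
noncomputable def openLift (I : Fin q ↪ Fin n) {W : (freeGrass R n q).left.Opens} (h : W ≤ chOpen R n q I) :
    openO R n q W ⟶ chartO (freeAtlas R n q) ⟨I⟩ :=
  Over.homMk (IsOpenImmersion.lift (glι (freeAtlas R n q) ⟨I⟩).left W.ι (by
      rintro _ ⟨w, rfl⟩
      obtain ⟨y, -, hy⟩ := h w.2
      exact ⟨y, hy⟩)) (by
    rw [← Over.w (glι (freeAtlas R n q) ⟨I⟩), ← Category.assoc, IsOpenImmersion.lift_fac]
    rfl)

theorem openLift_glι (I : Fin q ↪ Fin n) {W : (freeGrass R n q).left.Opens} (h : W ≤ chOpen R n q I) :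
    openLift R I h ≫ glι (freeAtlas R n q) ⟨I⟩ = Over.homMk W.ι rfl :=
  Over.OverMorphism.ext (IsOpenImmersion.lift_fac _ _ _)

theorem toHom_openLift (I : Fin q ↪ Fin n) {W : (freeGrass R n q).left.Opens} (h : W ≤ chOpen R n q I)
    (x : ChartPoly R I) :
    W.topIso.hom.hom ((toHom (openLift R I h)).hom x) = (freeGrass R n q).left.presheaf.map (homOfLE h).op (chSec R I x) := by
  show W.topIso.hom.hom ((openLift R I h).left.appTop.hom ((Scheme.ΓSpecIso (CommRingCat.of (ChartPoly R I))).inv x)) = _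
  rw [← appLE_chSec, Scheme.Hom.appTop, Scheme.Hom.app_eq_appLE]
  erw [← CommRingCat.comp_apply, ← CommRingCat.comp_apply]
  congr 2
  have h1 : (openLift R I h).left ≫ (glι (freeAtlas R n q) ⟨I⟩).left = W.ι := IsOpenImmersion.lift_fac _ _ _
  erw [Scheme.Hom.appLE_comp_appLE_assoc]
  simp only [h1]
  rw [Scheme.Opens.ι_appLE, Scheme.Opens.topIso_hom, ← Functor.map_comp]
  rfl

/-- The chart indices cover. -/
theorem iSup_chOpen (hq : q ≤ n) : ⨆ a, chOpen R n q (idx n q hq a) = ⊤ := by
  refine top_le_iff.1 fun x _ => ?_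
  obtain ⟨⟨I⟩, z, rfl⟩ := glι_jointly_surjective (freeAtlas R n q) x
  obtain ⟨a, σ, hσ⟩ := exists_idx hq I I.injective
  refine TopologicalSpace.Opens.mem_iSup.2 ⟨a, ?_⟩
  show z ∈ (glι (freeAtlas R n q) ⟨I⟩).left ⁻¹ᵁ chOpen R n q (idx n q hq a)
  rw [preimage_chOpen]
  show minor (colOf I (MvPolynomial.X (R := R))) (idx n q hq a) ∉ z.asIdeal
  refine fun hz => z.2.ne_top (Ideal.eq_top_of_isUnit_mem _ hz ?_)
  rw [hσ, minor_perm, minor_self (normal_colOf I _), zsmul_one]
  exact ((Equiv.Perm.sign σ).isUnit).map (Int.castRingHom (ChartPoly R I))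

theorem basicOpen_chSec (I J : Fin q ↪ Fin n) :
    (freeGrass R n q).left.basicOpen (chSec R I (minor (colOf I (MvPolynomial.X (R := R))) J)) =
      chOpen R n q I ⊓ chOpen R n q J := by
  set f := (glι (freeAtlas R n q) ⟨I⟩).left
  have h : f ⁻¹ᵁ (freeGrass R n q).left.basicOpen (chSec R I (minor (colOf I (MvPolynomial.X (R := R))) J)) =
      f ⁻¹ᵁ chOpen R n q J := by
    rw [preimage_chOpen, Scheme.preimage_basicOpen]
    have h2 := congrArg ((Spec (CommRingCat.of (ChartPoly R I))).basicOpen)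
      (appLE_chSec I (minor (colOf I (MvPolynomial.X (R := R))) J))
    rw [basicOpen_eq_of_affine] at h2
    refine Eq.trans ?_ h2
    rw [Scheme.Hom.appLE, CommRingCat.comp_apply]
    refine Eq.trans ?_ (Scheme.basicOpen_res _ _ _).symm
    exact (top_inf_eq (α := (Spec (CommRingCat.of (ChartPoly R I))).Opens) _).symm
  have hle := (freeGrass R n q).left.basicOpen_le (chSec R I (minor (colOf I (MvPolynomial.X (R := R))) J))
  calc (freeGrass R n q).left.basicOpen _
      = f ''ᵁ (f ⁻¹ᵁ (freeGrass R n q).left.basicOpen _) := by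
        rw [Scheme.Hom.image_preimage_eq_opensRange_inf, ← Scheme.Hom.image_top_eq_opensRange, inf_eq_right.2 hle]
    _ = f ''ᵁ (f ⁻¹ᵁ chOpen R n q J) := by rw [h]
    _ = chOpen R n q I ⊓ chOpen R n q J := by
        rw [Scheme.Hom.image_preimage_eq_opensRange_inf, ← Scheme.Hom.image_top_eq_opensRange]

/-- The Plücker ratios. -/
noncomputable def plFamily (R : Type u) [CommRing R] {n q : ℕ} (hq : q ≤ n) :
    AmpleEmb.RatioFamily (freeGrass R n q).left (n.choose q - 1) where
  U a := chOpen R n q (idx n q hq a)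
  affine a := by
    haveI := glι_isOpenImmersion (freeAtlas R n q) ⟨idx n q hq a⟩
    exact (isAffineOpen_top (Spec (CommRingCat.of (ChartPoly R (idx n q hq a))))).image_of_isOpenImmersion _
  cover := iSup_chOpen hq
  t := ratio hq
  t_self i := by rw [ratio, minor_self (normal_colOf _ _), map_one]
  t_open i a := basicOpen_chSec _ _
  t_mul i j a := by
    let W := chOpen R n q (idx n q hq i) ⊓ chOpen R n q (idx n q hq j)
    let li := openLift R (idx n q hq i) (W := W) inf_le_left
    let lj := openLift R (idx n q hq j) (W := W) inf_le_right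
    have hpt : pt (freeAtlas R n q) li = pt (freeAtlas R n q) lj :=
      (glι_eq_iff (freeAtlas R n q) li lj).1 ((openLift_glι _ _).trans (openLift_glι _ _).symm)
    have hci : HasCoord (pt (freeAtlas R n q) li).toSubmodule (idx n q hq i)
        (colOf (idx n q hq i) fun p => (toHom li).hom (MvPolynomial.X p)) := by
      show HasCoord (Module.Grassmannian.map (toHom li).hom (univPt R n q (idx n q hq i))).toSubmodule _ _
      rw [map_univPt]
      exact hasCoord_ofCoord _
    have hcj : HasCoord (pt (freeAtlas R n q) lj).toSubmodule (idx n q hq j)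
        (colOf (idx n q hq j) fun p => (toHom lj).hom (MvPolynomial.X p)) := by
      show HasCoord (Module.Grassmannian.map (toHom lj).hom (univPt R n q (idx n q hq j))).toSubmodule _ _
      rw [map_univPt]
      exact hasCoord_ofCoord _
    rw [← hpt] at hcj
    have h := congrArg W.topIso.hom.hom (minor_trans hci hcj (idx n q hq a))
    rw [map_mul, ← colOf_map, ← colOf_map, ← minor_map, ← minor_map, ← minor_map] at h
    erw [toHom_openLift, toHom_openLift, toHom_openLift] at h
    exact h

theorem surjective_eval_ratio (hq : q ≤ n) (i : Fin (n.choose q - 1 + 1))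
    (hle : chOpen R n q (idx n q hq i) ≤ (freeGrass R n q).hom ⁻¹ᵁ ⊤) :
    Function.Surjective (MvPolynomial.eval₂Hom
      ((freeGrass R n q).hom.appLE ⊤ (chOpen R n q (idx n q hq i)) hle).hom (ratio (R := R) hq i)) := by
  set I := idx n q hq i
  intro y
  obtain ⟨x, rfl⟩ := chSec_surjective I y
  suffices h : ∀ x, chSec R I x ∈ (MvPolynomial.eval₂Hom ((freeGrass R n q).hom.appLE ⊤ (chOpen R n q I) hle).hom
    (ratio (R := R) hq i)).range from h x
  intro x
  induction x using MvPolynomial.induction_on with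
  | C r =>
    refine ⟨MvPolynomial.C ((Scheme.ΓSpecIso (CommRingCat.of R)).inv r), ?_⟩
    rw [MvPolynomial.eval₂Hom_C]
    refine ((glι (freeAtlas R n q) ⟨I⟩).left.appIso ⊤).commRingCatIsoToRingEquiv.injective ?_
    show ((glι (freeAtlas R n q) ⟨I⟩).left.appIso ⊤).hom.hom _ = ((glι (freeAtlas R n q) ⟨I⟩).left.appIso ⊤).hom.hom _
    simp only [Scheme.Hom.appIso_hom']
    rw [appLE_chSec]
    erw [← CommRingCat.comp_apply, ← CommRingCat.comp_apply]
    rw [Scheme.Hom.appLE_comp_appLE]
    simp only [Over.w (glι (freeAtlas R n q) ⟨I⟩)]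
    show ((Scheme.ΓSpecIso (CommRingCat.of R)).inv ≫ (Spec.map (CommRingCat.ofHom (algebraMap R (ChartPoly R I)))).appTop).hom r = _
    rw [← Scheme.ΓSpecIso_inv_naturality]
    rfl
  | add a b ha hb =>
    rw [map_add]
    exact add_mem ha hb
  | mul_X x p hx =>
    rw [map_mul]
    refine mul_mem hx ?_
    have hinj : Function.Injective (Function.update (⇑I) p.1 p.2.1) := by
      intro a b hab
      simp only [Function.update_apply] at hab
      split at hab <;> split at hab
      · simp [*]
      · exact (p.2.2 ⟨b, hab.symm⟩).elim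
      · exact (p.2.2 ⟨a, hab⟩).elim
      · exact I.injective hab
    obtain ⟨a, σ, hσ⟩ := exists_idx hq _ hinj
    have h : ratio (R := R) hq i a = (Equiv.Perm.sign σ : ℤ) • chSec R I (MvPolynomial.X p) := by
      rw [ratio, hσ, minor_perm, variable_eq_minor, map_zsmul]
    have h1 : ((Equiv.Perm.sign σ : ℤ) * (Equiv.Perm.sign σ : ℤ)) = 1 := by
      rw [← Units.val_mul, Int.units_mul_self, Units.val_one]
    refine ⟨(Equiv.Perm.sign σ : ℤ) • MvPolynomial.X a, ?_⟩
    rw [map_zsmul, MvPolynomial.eval₂Hom_X', h, smul_smul, h1, one_smul]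

theorem exists_pluecker (hq : q ≤ n) :
    ∃ c : (freeGrass R n q).left ⟶ CohB1.ProjSpaceOver (n.choose q - 1) (Spec (CommRingCat.of R)),
      IsClosedImmersion c ∧
        c ≫ CohB1.ProjSpaceOver.toBase (n.choose q - 1) (Spec (CommRingCat.of R)) = (freeGrass R n q).hom := by
  let F := plFamily R hq
  let c := AmpleEmb.toProjOver (freeGrass R n q).hom F
  refine ⟨c, ?_, AmpleEmb.toProjOver_toBase _ _⟩
  have hcov : ⨆ i, AmpleEmb.overOpen (n := n.choose q - 1) (Y := Spec (CommRingCat.of R)) i ⊓
      CohB1.ProjSpaceOver.toBase (n.choose q - 1) (Spec (CommRingCat.of R)) ⁻¹ᵁ ⊤ = ⊤ := by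
    simp only [Scheme.Hom.preimage_top, inf_top_eq, ← Scheme.Hom.preimage_iSup, AmpleEmb.iSup_stdOpen]
  refine IsZariskiLocalAtTarget.of_iSup_eq_top _ hcov fun i => ?_
  have hle : F.U i ≤ (freeGrass R n q).hom ⁻¹ᵁ ⊤ := fun _ _ => trivial
  exact AmpleEmb.isClosedImmersion_morphismRestrict_of_surjective c (AmpleEmb.preimage_overOpen_inf _ F hle)
    (AmpleEmb.isAffineOpen_overOpen_inf (isAffineOpen_top _) i) (F.affine i)
    (AmpleEmb.surjective_appLE _ F hle (surjective_eval_ratio hq i hle))

end Groth.Agent.GrassRepLib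

namespace Groth.Agent.GrassRepLib

theorem exists_pluecker_of_represents {R : Type u} [CommRing R] {n q : ℕ} (hq : q ≤ n)
    (X : Over (Spec (CommRingCat.of R)))
    (e : ∀ A : CommAlgCat.{u} R, (HilbDescLib.test A ⟶ X) ≃
      (Module.Grassmannian.functor (R := R) (M := Fin n → R) q).obj A)
    (he : Represents (Module.Grassmannian.functor (R := R) (M := Fin n → R) q) X e) :
    ∃ c : X.left ⟶ CohB1.ProjSpaceOver (n.choose q - 1) (Spec (CommRingCat.of R)),
      IsClosedImmersion c ∧
        c ≫ CohB1.ProjSpaceOver.toBase (n.choose q - 1) (Spec (CommRingCat.of R)) = X.hom := by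
  obtain ⟨φ, -⟩ := exists_iso_of_represents (represents_free (R := R) n q) he
  obtain ⟨c, hc, hc'⟩ := exists_pluecker (R := R) hq
  haveI : IsIso φ.inv.left := (inferInstance : IsIso ((Over.forget _).map φ.inv))
  refine ⟨φ.inv.left ≫ c, inferInstance, ?_⟩
  rw [Category.assoc, hc', Over.w φ.inv]

theorem exists_pluecker_of_basis {R : Type u} [CommRing R] {M : Type u} [AddCommGroup M] [Module R M]
    {n q : ℕ} (b : Module.Basis (Fin n) R M) (hq : q ≤ n) (X : Over (Spec (CommRingCat.of R)))
    (e : ∀ A : CommAlgCat.{u} R, (HilbDescLib.test A ⟶ X) ≃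
      (Module.Grassmannian.functor (R := R) (M := M) q).obj A)
    (he : Represents (Module.Grassmannian.functor (R := R) (M := M) q) X e) :
    ∃ c : X.left ⟶ CohB1.ProjSpaceOver (n.choose q - 1) (Spec (CommRingCat.of R)),
      IsClosedImmersion c ∧
        c ≫ CohB1.ProjSpaceOver.toBase (n.choose q - 1) (Spec (CommRingCat.of R)) = X.hom := by
  let v : (Fin n → R) →ₗ[R] M := b.equivFun.symm.toLinearMap
  have hv : Function.Surjective v := b.equivFun.symm.surjective
  have hker : ∀ A : CommAlgCat.{u} R, LinearMap.ker (v.baseChange A) = ⊥ := fun A =>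
    LinearMap.ker_eq_bot.2 (b.equivFun.symm.baseChange R A).injective
  have hbij : ∀ A : CommAlgCat.{u} R, Function.Bijective
      (HilbDescLib.grComap hv : Module.Grassmannian A (TensorProduct R A M) q → _) := fun A =>
    ⟨HilbDescLib.grComap_injective hv, fun N =>
      ⟨HilbDescLib.grPush hv N ((hker A).le.trans bot_le), HilbDescLib.grComap_grPush hv N _⟩⟩
  refine exists_pluecker_of_represents hq X (fun A => (e A).trans (Equiv.ofBijective _ (hbij A)))
    fun A B φ g g' hg => ?_
  show HilbDescLib.grComap hv (e B g') = Module.Grassmannian.map φ.hom (HilbDescLib.grComap hv (e A g))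
  rw [he A B φ g g' hg, HilbDescLib.grComap_map]
  rfl

end Groth.Agent.GrassRepLib
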